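import Groth.Prelude.Def_StGerb
import Groth.Agent.FibCatRep.Cart

/-!
Gerbes over a category fibred in groupoids: composition, base change, descent and invariance under
equivalences over the base.
-/

set_option autoImplicit false
set_option linter.style.haveILetI false
set_option linter.unusedSectionVars false
set_option backward.isDefEq.respectTransparency false
set_option backward.isDefEq.respectTransparency.types false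
universe v u v₂ u₂ v₃ u₃ v₄ u₄

namespace Groth.Agent.GerbLib

open CategoryTheory CategoryTheory.Limits FibCat

variable {C : Type u} [Category.{v} C]

section lifts

variable {𝒳 : Type u₂} [Category.{v₂} 𝒳] {p : 𝒳 ⥤ C}

lemma sc (hp : IsFibGrpd p) {V U : C} (f : V ⟶ U) {y x : 𝒳} (φ : y ⟶ x) [p.IsHomLift f φ] :
    p.IsStronglyCartesian f φ :=
  FibCatRep.lift_of_cart f φ (hp.isStronglyCartesian φ)

lemma lift_at (hp : IsFibGrpd p) {x : 𝒳} {V U : C} (hx : p.obj x = U) (f : V ⟶ U) :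
    ∃ (y : 𝒳) (φ : y ⟶ x), p.IsHomLift f φ := by
  subst hx
  exact hp.exists_lift f

/-- Two morphisms to the same object over the same morphism differ by an isomorphism over the identity. -/
lemma exists_connect (hp : IsFibGrpd p) {V U : C} (f : V ⟶ U) {y z x : 𝒳} (φ : y ⟶ x)
    (ψ : z ⟶ x) [p.IsHomLift f φ] [p.IsHomLift f ψ] :
    ∃ χ : z ⟶ y, p.IsHomLift (𝟙 V) χ ∧ χ ≫ φ = ψ := by
  haveI := sc hp f φ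
  haveI := sc hp f ψ
  exact ⟨Functor.IsStronglyCartesian.map p f φ (f' := f) (g := 𝟙 V) (Category.id_comp f).symm ψ,
    inferInstance, Functor.IsStronglyCartesian.fac _ _ _ _ _⟩

lemma isIso_over_id (hp : IsFibGrpd p) {V : C} {y x : 𝒳} (φ : y ⟶ x) [p.IsHomLift (𝟙 V) φ] :
    IsIso φ := by
  haveI : IsIso (p.map φ) := by
    rw [IsHomLift.fac' p (𝟙 V) φ]
    infer_instance
  exact FibCatRep.isIso_of_map hp φ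

lemma comp_lift {U₁ U₂ U₃ : C} (f : U₁ ⟶ U₂) (g : U₂ ⟶ U₃) {a b c : 𝒳} (φ : a ⟶ b) (ψ : b ⟶ c)
    (h₁ : p.IsHomLift f φ) (h₂ : p.IsHomLift g ψ) : p.IsHomLift (f ≫ g) (φ ≫ ψ) :=
  inferInstance

lemma comp_id_lift {U₁ U₂ : C} (f : U₁ ⟶ U₂) {a b c : 𝒳} (φ : a ⟶ b) (ψ : b ⟶ c)
    (h₁ : p.IsHomLift (𝟙 U₁) φ) (h₂ : p.IsHomLift f ψ) : p.IsHomLift f (φ ≫ ψ) := by
  simpa using comp_lift (𝟙 U₁) f φ ψ h₁ h₂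

lemma lift_comp_id {U₁ U₂ : C} (f : U₁ ⟶ U₂) {a b c : 𝒳} (φ : a ⟶ b) (ψ : b ⟶ c)
    (h₁ : p.IsHomLift f φ) (h₂ : p.IsHomLift (𝟙 U₂) ψ) : p.IsHomLift f (φ ≫ ψ) := by
  simpa using comp_lift f (𝟙 U₂) φ ψ h₁ h₂

end lifts

section based

variable {J : GrothendieckTopology C} {𝒳 : BasedCategory.{v₂, u₂} C} {𝒴 : BasedCategory.{v₃, u₃} C}
  {𝒵 : BasedCategory.{v₄, u₄} C}

lemma locObj_at {F : 𝒳 ⥤ᵇ 𝒴} (hF : Gerb.LocSurjObj J F) {U : C} (y : 𝒴.obj)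
    (hy : 𝒴.p.obj y = U) :
    ∃ R ∈ J U, ∀ ⦃V : C⦄ (f : V ⟶ U), R f →
      ∃ (x : 𝒳.obj) (g : F.obj x ⟶ y), 𝒴.p.IsHomLift f g := by
  subst hy
  exact hF y

lemma locHom_at {F : 𝒳 ⥤ᵇ 𝒴} (hF : Gerb.LocSurjHom J F) {U : C} (x x' : 𝒳.obj)
    (b : F.obj x ⟶ F.obj x') (hx : 𝒳.p.obj x = U) (hb : 𝒴.p.IsHomLift (𝟙 U) b) :
    ∃ R ∈ J U, ∀ ⦃V : C⦄ (f : V ⟶ U), R f →
      ∃ (x₀ : 𝒳.obj) (φ : x₀ ⟶ x) (ψ : x₀ ⟶ x'),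
        𝒳.p.IsHomLift f φ ∧ 𝒳.p.IsHomLift f ψ ∧ F.map φ ≫ b = F.map ψ := by
  subst hx
  exact hF x x' b hb

lemma obj_over (F : 𝒳 ⥤ᵇ 𝒴) {x : 𝒳.obj} {U : C} (h : 𝒴.p.obj (F.obj x) = U) : 𝒳.p.obj x = U :=
  (F.w_obj x).symm.trans h

lemma map_lift (F : 𝒳 ⥤ᵇ 𝒴) {V U : C} {f : V ⟶ U} {a b : 𝒳.obj} {φ : a ⟶ b}
    (h : 𝒳.p.IsHomLift f φ) : 𝒴.p.IsHomLift f (F.map φ) :=
  (BasedFunctor.isHomLift_iff F f φ).mpr h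

lemma lift_of_map (F : 𝒳 ⥤ᵇ 𝒴) {V U : C} {f : V ⟶ U} {a b : 𝒳.obj} {φ : a ⟶ b}
    (h : 𝒴.p.IsHomLift f (F.map φ)) : 𝒳.p.IsHomLift f φ :=
  (BasedFunctor.isHomLift_iff F f φ).mp h

theorem locSurjObj_comp {F : 𝒳 ⥤ᵇ 𝒴} {G : 𝒴 ⥤ᵇ 𝒵} (hF : Gerb.LocSurjObj J F)
    (hG : Gerb.LocSurjObj J G) : Gerb.LocSurjObj J (BasedFunctor.comp F G) := by
  intro z
  obtain ⟨R, hR, hR'⟩ := hG z
  have h₂ : ∀ ⦃V : C⦄ ⦃f : V ⟶ 𝒵.p.obj z⦄, R f → ∃ R' ∈ J V, ∀ ⦃W : C⦄ (h : W ⟶ V), R' h →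
      ∃ (x : 𝒳.obj) (g : (BasedFunctor.comp F G).obj x ⟶ z), 𝒵.p.IsHomLift (h ≫ f) g := by
    intro V f hf
    obtain ⟨y, g, hg⟩ := hR' f hf
    obtain ⟨R', hR1, hR2⟩ := locObj_at hF y
      (obj_over G (IsHomLift.domain_eq 𝒵.p f g))
    refine ⟨R', hR1, fun W h hh => ?_⟩
    obtain ⟨x, k, hk⟩ := hR2 h hh
    exact ⟨x, G.map k ≫ g, comp_lift h f _ _ (map_lift G hk) hg⟩
  choose R' hR'1 hR'2 using h₂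
  refine ⟨Sieve.bind R.arrows R', J.bind_covering hR hR'1, ?_⟩
  rintro W k ⟨V, h, f, hf, hh, rfl⟩
  exact hR'2 hf h hh

theorem locSurjHom_comp (hY : IsFibGrpd 𝒴.p) (hX : IsFibGrpd 𝒳.p) {F : 𝒳 ⥤ᵇ 𝒴} {G : 𝒴 ⥤ᵇ 𝒵}
    (hF : Gerb.LocSurjHom J F) (hG : Gerb.LocSurjHom J G) :
    Gerb.LocSurjHom J (BasedFunctor.comp F G) := by
  intro x x' b hb
  have hx' : 𝒳.p.obj x' = 𝒳.p.obj x :=
    obj_over F (obj_over G (IsHomLift.codomain_eq 𝒵.p (𝟙 (𝒳.p.obj x)) b))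
  obtain ⟨R, hR, hR'⟩ := locHom_at hG (F.obj x) (F.obj x') b (F.w_obj x) hb
  have h₂ : ∀ ⦃V : C⦄ ⦃f : V ⟶ 𝒳.p.obj x⦄, R f → ∃ R' ∈ J V, ∀ ⦃W : C⦄ (h : W ⟶ V), R' h →
      ∃ (x₀ : 𝒳.obj) (φ : x₀ ⟶ x) (ψ : x₀ ⟶ x'), 𝒳.p.IsHomLift (h ≫ f) φ ∧
        𝒳.p.IsHomLift (h ≫ f) ψ ∧ G.map (F.map φ) ≫ b = G.map (F.map ψ) := by
    intro V f hf
    obtain ⟨y₀, φ, ψ, hφ, hψ, hb'⟩ := hR' f hf
    obtain ⟨x₁, φ₁, hφ₁⟩ := lift_at hX rfl f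
    obtain ⟨x₁', ψ₁, hψ₁⟩ := lift_at hX hx' f
    haveI := map_lift F hφ₁
    haveI := map_lift F hψ₁
    obtain ⟨c, hc, hc'⟩ := exists_connect hY f φ (F.map φ₁)
    obtain ⟨d, hd, hd'⟩ := exists_connect hY f (F.map ψ₁) ψ
    obtain ⟨R', hR1, hR2⟩ := locHom_at hF x₁ x₁' (c ≫ d) (IsHomLift.domain_eq 𝒳.p f φ₁)
      (comp_id_lift (𝟙 V) c d hc hd)
    refine ⟨R', hR1, fun W h hh => ?_⟩
    obtain ⟨x₀, α, β, hα, hβ, hαβ⟩ := hR2 h hh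
    refine ⟨x₀, α ≫ φ₁, β ≫ ψ₁, comp_lift h f α φ₁ hα hφ₁, comp_lift h f β ψ₁ hβ hψ₁, ?_⟩
    rw [F.map_comp α, F.map_comp β, ← hc', ← hαβ, G.map_comp, G.map_comp, Category.assoc,
      Category.assoc, hb', ← hd', ← G.map_comp, ← G.map_comp]
    simp only [Category.assoc]
  choose R' hR'1 hR'2 using h₂
  refine ⟨Sieve.bind R.arrows R', J.bind_covering hR hR'1, ?_⟩
  rintro W k ⟨V, h, f, hf, hh, rfl⟩
  exact hR'2 hf h hh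

theorem isGerbeOver_comp (hY : IsFibGrpd 𝒴.p) (hX : IsFibGrpd 𝒳.p) {F : 𝒳 ⥤ᵇ 𝒴} {G : 𝒴 ⥤ᵇ 𝒵}
    (hF : Gerb.IsGerbeOver J F) (hG : Gerb.IsGerbeOver J G) :
    Gerb.IsGerbeOver J (BasedFunctor.comp F G) :=
  ⟨locSurjObj_comp hF.1 hG.1, locSurjHom_comp hY hX hF.2 hG.2⟩

end based

end Groth.Agent.GerbLib
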