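import Groth.Agent.GerbLib.Basic

/-!
Base change, descent and invariance under equivalence of gerbes over a category fibred in groupoids.
-/

set_option autoImplicit false
set_option linter.style.haveILetI false
set_option linter.unusedSectionVars false
set_option backward.isDefEq.respectTransparency false
set_option backward.isDefEq.respectTransparency.types false
universe v u v₂ u₂ v₃ u₃ v₄ u₄ v₅ u₅

namespace Groth.Agent.GerbLib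

open CategoryTheory CategoryTheory.Limits FibCat

variable {C : Type u} [Category.{v} C] {J : GrothendieckTopology C}
  {𝒳 : BasedCategory.{v₂, u₂} C} {𝒴 : BasedCategory.{v₃, u₃} C}

lemma lift_of_map_eq {𝒲 : Type u₂} [Category.{v₂} 𝒲] {p : 𝒲 ⥤ C} {a b : 𝒲} (φ : a ⟶ b) {U : C}
    (hb : p.obj b = U) (h : p.obj a = p.obj b) (e : p.map φ = eqToHom h) :
    p.IsHomLift (𝟙 U) φ :=
  IsHomLift.of_fac' p _ _ (h.trans hb) hb (e.trans (by simp))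

lemma inv_lift {𝒲 : Type u₂} [Category.{v₂} 𝒲] {p : 𝒲 ⥤ C} {a b : 𝒲} (φ : a ⟶ b) [IsIso φ] (U : C)
    (h : p.IsHomLift (𝟙 U) φ) : p.IsHomLift (𝟙 U) (inv φ) :=
  inferInstance

lemma equiv_obj {F : 𝒳 ⥤ᵇ 𝒴} (hF : IsEquivOver F) {U : C} (y : 𝒴.obj) (hy : 𝒴.p.obj y = U) :
    ∃ (x : 𝒳.obj) (e : F.obj x ≅ y),
      𝒴.p.IsHomLift (𝟙 U) e.hom ∧ 𝒴.p.IsHomLift (𝟙 U) e.inv := by
  obtain ⟨x, e, hx, he⟩ := (FibCatRep.isEquivOver_data hF).2 y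
  have h1 := lift_of_map_eq e.hom hy hx he
  exact ⟨x, e, h1, by simpa using inv_lift e.hom U h1⟩

lemma equiv_hom {F : 𝒳 ⥤ᵇ 𝒴} (hF : IsEquivOver F) {V U : C} (f : V ⟶ U) {a b : 𝒳.obj}
    (φ : F.obj a ⟶ F.obj b) (h : 𝒴.p.IsHomLift f φ) :
    ∃ ψ : a ⟶ b, F.map ψ = φ ∧ 𝒳.p.IsHomLift f ψ := by
  haveI := (FibCatRep.isEquivOver_data hF).1
  refine ⟨F.toFunctor.preimage φ, F.toFunctor.map_preimage φ, lift_of_map F ?_⟩
  rw [F.toFunctor.map_preimage]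
  exact h

theorem isGerbeOver_of_comp {𝒵 : BasedCategory.{v₄, u₄} C} {a : 𝒳 ⥤ᵇ 𝒴} (ha : IsEquivOver a)
    (H : 𝒴 ⥤ᵇ 𝒵) (h : Gerb.IsGerbeOver J (BasedFunctor.comp a H)) : Gerb.IsGerbeOver J H := by
  refine ⟨fun z => ?_, fun y y' b hb => ?_⟩
  · obtain ⟨R, hR, hR'⟩ := h.1 z
    exact ⟨R, hR, fun V f hf => let ⟨x, g, hg⟩ := hR' f hf; ⟨a.obj x, g, hg⟩⟩
  · obtain ⟨x, e, he, he'⟩ := equiv_obj ha y rfl
    obtain ⟨x', d, hd, hd'⟩ := equiv_obj ha y'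
      (obj_over H (IsHomLift.codomain_eq 𝒵.p (𝟙 (𝒴.p.obj y)) b))
    obtain ⟨R, hR, hR'⟩ := locHom_at h.2 x x' (H.map e.hom ≫ b ≫ H.map d.inv)
      (obj_over a (IsHomLift.domain_eq 𝒴.p (𝟙 (𝒴.p.obj y)) e.hom))
      (comp_id_lift _ _ _ (map_lift H he) (lift_comp_id _ _ _ hb (map_lift H hd')))
    refine ⟨R, hR, fun V f hf => ?_⟩
    obtain ⟨x₀, φ, ψ, hφ, hψ, hb'⟩ := hR' f hf
    refine ⟨a.obj x₀, a.map φ ≫ e.hom, a.map ψ ≫ d.hom, lift_comp_id f _ _ (map_lift a hφ) he,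
      lift_comp_id f _ _ (map_lift a hψ) hd, ?_⟩
    change H.map (a.map φ) ≫ H.map e.hom ≫ b ≫ H.map d.inv = H.map (a.map ψ) at hb'
    rw [H.map_comp, H.map_comp, ← hb']
    simp only [Category.assoc]
    rw [← H.map_comp d.inv, Iso.inv_hom_id, H.map_id]
    simp

theorem isGerbeOver_comp_equiv {𝒵 : BasedCategory.{v₄, u₄} C} {a : 𝒳 ⥤ᵇ 𝒴} (ha : IsEquivOver a)
    (H : 𝒴 ⥤ᵇ 𝒵) (h : Gerb.IsGerbeOver J H) : Gerb.IsGerbeOver J (BasedFunctor.comp a H) := by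
  refine ⟨fun z => ?_, fun x x' b hb => ?_⟩
  · obtain ⟨R, hR, hR'⟩ := h.1 z
    refine ⟨R, hR, fun V f hf => ?_⟩
    obtain ⟨y, g, hg⟩ := hR' f hf
    obtain ⟨x, e, he, -⟩ := equiv_obj ha y (obj_over H (IsHomLift.domain_eq 𝒵.p f g))
    exact ⟨x, H.map e.hom ≫ g, comp_id_lift f _ _ (map_lift H he) hg⟩
  · obtain ⟨R, hR, hR'⟩ := locHom_at h.2 (a.obj x) (a.obj x') b (a.w_obj x) hb
    refine ⟨R, hR, fun V f hf => ?_⟩
    obtain ⟨y₀, φ, ψ, hφ, hψ, hb'⟩ := hR' f hf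
    obtain ⟨x₀, e, he, -⟩ := equiv_obj ha y₀ (IsHomLift.domain_eq 𝒴.p f φ)
    obtain ⟨φ', hφ', hφ''⟩ := equiv_hom ha f (e.hom ≫ φ) (comp_id_lift f _ _ he hφ)
    obtain ⟨ψ', hψ', hψ''⟩ := equiv_hom ha f (e.hom ≫ ψ) (comp_id_lift f _ _ he hψ)
    refine ⟨x₀, φ', ψ', hφ'', hψ'', ?_⟩
    change H.map (a.map φ') ≫ b = H.map (a.map ψ')
    rw [hφ', hψ', H.map_comp, H.map_comp, ← hb']
    simp only [Category.assoc]

section fp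

variable {𝒴' : BasedCategory.{v₄, u₄} C} {G : 𝒴' ⥤ᵇ 𝒴} {F : 𝒳 ⥤ᵇ 𝒴}

lemma fp_lift_snd {o o' : (fp G F).obj} (m : o ⟶ o') {V U : C} (f : V ⟶ U)
    (h : 𝒴'.p.IsHomLift f m.hom.fst) : 𝒳.p.IsHomLift f m.hom.snd :=
  map_lift (fpSnd G F) (φ := m) (lift_of_map (fpFst G F) (φ := m) h)

theorem isGerbeOver_fpFst (hY : IsFibGrpd 𝒴.p) (hY' : IsFibGrpd 𝒴'.p)
    (hF : Gerb.IsGerbeOver J F) : Gerb.IsGerbeOver J (fpFst G F) := by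
  refine ⟨fun y' => ?_, fun o o' b hb => ?_⟩
  · obtain ⟨R, hR, hR'⟩ := locObj_at hF.1 (G.obj y') (G.w_obj y')
    refine ⟨R, hR, fun V f hf => ?_⟩
    obtain ⟨x, g, hg⟩ := hR' f hf
    obtain ⟨y'', φ, hφ⟩ := lift_at hY' rfl f
    haveI := map_lift G hφ
    obtain ⟨χ, hχ, -⟩ := exists_connect hY f (G.map φ) g
    haveI := isIso_over_id hY (V := V) χ
    have hy'' : 𝒴'.p.obj y'' = V := IsHomLift.domain_eq 𝒴'.p f φ
    let o : (fp G F).obj :=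
      ⟨⟨y'', x, (asIso χ).symm⟩, by
        change 𝒴.p.IsHomLift (𝟙 (𝒴'.p.obj y'')) (inv χ)
        rw [hy'']
        exact inv_lift χ V hχ⟩
    exact ⟨o, φ, hφ⟩
  · let U := 𝒴'.p.obj o.obj.fst
    have hb : 𝒴'.p.IsHomLift (𝟙 U) b := hb
    have ho : 𝒴.p.IsHomLift (𝟙 U) o.obj.iso.hom := o.property
    have hU' : 𝒴'.p.obj o'.obj.fst = U := IsHomLift.codomain_eq 𝒴'.p (𝟙 U) b
    have ho' : 𝒴.p.IsHomLift (𝟙 U) o'.obj.iso.hom := hU' ▸ o'.property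
    haveI := ho
    obtain ⟨R, hR, hR'⟩ := locHom_at hF.2 o.obj.snd o'.obj.snd
      (o.obj.iso.inv ≫ G.map b ≫ o'.obj.iso.hom)
      (obj_over F (IsHomLift.codomain_eq 𝒴.p (𝟙 U) o.obj.iso.hom))
      (comp_id_lift (𝟙 U) _ _ inferInstance (lift_comp_id _ _ _ (map_lift G hb) ho'))
    refine ⟨R, hR, fun V f hf => ?_⟩
    obtain ⟨x₀, φ, ψ, hφ, hψ, hc⟩ := hR' f hf
    obtain ⟨y₀, β, hβ⟩ := lift_at hY' rfl f
    haveI : 𝒴.p.IsHomLift f (G.map β ≫ o.obj.iso.hom) := lift_comp_id f _ _ (map_lift G hβ) ho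
    haveI := map_lift F hφ
    obtain ⟨j, hj, hj'⟩ := exists_connect hY f (F.map φ) (G.map β ≫ o.obj.iso.hom)
    haveI := isIso_over_id hY (V := V) j
    have hy₀ : 𝒴'.p.obj y₀ = V := IsHomLift.domain_eq 𝒴'.p f β
    let o₀ : (fp G F).obj :=
      ⟨⟨y₀, x₀, asIso j⟩, by
        change 𝒴.p.IsHomLift (𝟙 (𝒴'.p.obj y₀)) j
        rw [hy₀]
        exact hj⟩
    let m : o₀ ⟶ o := ObjectProperty.homMk ⟨β, φ, hj'.symm⟩
    let m' : o₀ ⟶ o' := ObjectProperty.homMk ⟨β ≫ b, ψ, by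
      change G.map (β ≫ b) ≫ o'.obj.iso.hom = j ≫ F.map ψ
      rw [← hc, reassoc_of% hj', o.obj.iso.hom_inv_id_assoc, G.map_comp, Category.assoc]⟩
    exact ⟨o₀, m, m', lift_of_map (fpFst G F) (φ := m) hβ,
      lift_of_map (fpFst G F) (φ := m') (lift_comp_id f _ _ hβ hb), rfl⟩

theorem isGerbeOver_of_fpFst (hX : IsFibGrpd 𝒳.p) (hY : IsFibGrpd 𝒴.p)
    (hG : Gerb.LocSurjObj J G) (h : Gerb.IsGerbeOver J (fpFst G F)) : Gerb.IsGerbeOver J F := by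
  refine ⟨fun y => ?_, fun x x' b hb => ?_⟩
  · obtain ⟨R, hR, hR'⟩ := hG y
    have h₂ : ∀ ⦃V : C⦄ ⦃f : V ⟶ 𝒴.p.obj y⦄, R f → ∃ R' ∈ J V, ∀ ⦃W : C⦄ (h : W ⟶ V), R' h →
        ∃ (x : 𝒳.obj) (g : F.obj x ⟶ y), 𝒴.p.IsHomLift (h ≫ f) g := by
      intro V f hf
      obtain ⟨y', g, hg⟩ := hR' f hf
      obtain ⟨R', hR1, hR2⟩ := locObj_at h.1 y' (obj_over G (IsHomLift.domain_eq 𝒴.p f g))
      refine ⟨R', hR1, fun W k hk => ?_⟩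
      obtain ⟨o, l, hl⟩ := hR2 k hk
      have ho : 𝒴.p.IsHomLift (𝟙 W) o.obj.iso.hom :=
        (IsHomLift.domain_eq 𝒴'.p k l : 𝒴'.p.obj o.obj.fst = W) ▸ o.property
      haveI := ho
      exact ⟨o.obj.snd, o.obj.iso.inv ≫ G.map l ≫ g,
        comp_id_lift _ _ _ inferInstance (comp_lift k f _ _ (map_lift G hl) hg)⟩
    choose R' hR'1 hR'2 using h₂
    refine ⟨Sieve.bind R.arrows R', J.bind_covering hR hR'1, ?_⟩
    rintro W k ⟨V, k', f, hf, hk, rfl⟩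
    exact hR'2 hf k' hk
  · obtain ⟨R, hR, hR'⟩ := locObj_at hG (F.obj x) (F.w_obj x)
    have hx' : 𝒳.p.obj x' = 𝒳.p.obj x :=
      obj_over F (IsHomLift.codomain_eq 𝒴.p (𝟙 (𝒳.p.obj x)) b)
    have h₂ : ∀ ⦃V : C⦄ ⦃f : V ⟶ 𝒳.p.obj x⦄, R f → ∃ R' ∈ J V, ∀ ⦃W : C⦄ (h : W ⟶ V), R' h →
        ∃ (x₀ : 𝒳.obj) (φ : x₀ ⟶ x) (ψ : x₀ ⟶ x'), 𝒳.p.IsHomLift (h ≫ f) φ ∧
          𝒳.p.IsHomLift (h ≫ f) ψ ∧ F.map φ ≫ b = F.map ψ := by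
      intro V f hf
      obtain ⟨y', g, hg⟩ := hR' f hf
      obtain ⟨x₁, φ₁, hφ₁⟩ := lift_at hX rfl f
      obtain ⟨x₁', ψ₁, hψ₁⟩ := lift_at hX hx' f
      haveI := map_lift F hφ₁
      haveI := map_lift F hψ₁
      obtain ⟨c, hc, hc'⟩ := exists_connect hY f (F.map φ₁) g
      haveI : 𝒴.p.IsHomLift f (g ≫ b) := lift_comp_id f _ _ hg hb
      obtain ⟨d, hd, hd'⟩ := exists_connect hY f (F.map ψ₁) (g ≫ b)
      haveI := isIso_over_id hY (V := V) c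
      haveI := isIso_over_id hY (V := V) d
      have hy' : 𝒴'.p.obj y' = V := obj_over G (IsHomLift.domain_eq 𝒴.p f g)
      let o : (fp G F).obj := ⟨⟨y', x₁, asIso c⟩, by
        change 𝒴.p.IsHomLift (𝟙 (𝒴'.p.obj y')) c
        rw [hy']; exact hc⟩
      let o' : (fp G F).obj := ⟨⟨y', x₁', asIso d⟩, by
        change 𝒴.p.IsHomLift (𝟙 (𝒴'.p.obj y')) d
        rw [hy']; exact hd⟩
      obtain ⟨R', hR1, hR2⟩ := locHom_at h.2 o o' (𝟙 y') hy' (IsHomLift.id hy')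
      refine ⟨R', hR1, fun W k hk => ?_⟩
      obtain ⟨o₀, m, m', hm, hm', he⟩ := hR2 k hk
      have hm₁ : 𝒴'.p.IsHomLift k m.hom.fst := map_lift (fpFst G F) hm
      have hm₁' : 𝒴'.p.IsHomLift k m'.hom.fst := map_lift (fpFst G F) hm'
      refine ⟨o₀.obj.snd, m.hom.snd ≫ φ₁, m'.hom.snd ≫ ψ₁,
        comp_lift k f m.hom.snd φ₁ (fp_lift_snd m k hm₁) hφ₁,
        comp_lift k f m'.hom.snd ψ₁ (fp_lift_snd m' k hm₁') hψ₁, ?_⟩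
      have e₁ : G.map m.hom.fst ≫ c = o₀.obj.iso.hom ≫ F.map m.hom.snd := m.hom.w
      have e₂ : G.map m'.hom.fst ≫ d = o₀.obj.iso.hom ≫ F.map m'.hom.snd := m'.hom.w
      have e₃ : m.hom.fst = m'.hom.fst := (Category.comp_id _).symm.trans he
      rw [← cancel_epi o₀.obj.iso.hom, F.map_comp, F.map_comp, Category.assoc, ← reassoc_of% e₁,
        ← reassoc_of% e₂, reassoc_of% hc', hd', e₃]
    choose R' hR'1 hR'2 using h₂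
    refine ⟨Sieve.bind R.arrows R', J.bind_covering hR hR'1, ?_⟩
    rintro W k ⟨V, k', f, hf, hk, rfl⟩
    exact hR'2 hf k' hk

end fp

end Groth.Agent.GerbLib
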