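import Groth.Agent.GerbLib.BandSheaf

/-!
Morphisms over an identity glue in a stack.
-/

set_option autoImplicit false
set_option backward.isDefEq.respectTransparency false
set_option backward.isDefEq.respectTransparency.types false
set_option linter.style.haveILetI false
universe v u

noncomputable section

namespace Groth.Agent.GerbLib

open CategoryTheory Category Groth.Agent.FibCatRep

variable {C : Type u} [Category.{v} C] {J : GrothendieckTopology C}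
  {𝒮 : BasedCategory.{v, max u v} C}

/-- morphisms over an identity glue -/
theorem existsUnique_glueHom (hS : Stk.IsStack J 𝒮) {x x' : 𝒮.obj} (e : 𝒮.p.obj x = 𝒮.p.obj x')
    {R : Sieve (𝒮.p.obj x)} (hR : R ∈ J (𝒮.p.obj x))
    (m : ∀ (y : 𝒮.obj) (φ : y ⟶ x), R (𝒮.p.map φ) → (y ⟶ x'))
    (hm : ∀ (y : 𝒮.obj) (φ : y ⟶ x) (h : R (𝒮.p.map φ)), 𝒮.p.map (m y φ h) = 𝒮.p.map φ ≫ eqToHom e)
    (compat : ∀ ⦃y' y : 𝒮.obj⦄ (ψ : y' ⟶ y) (φ : y ⟶ x) (h : R (𝒮.p.map φ)) (h' : R (𝒮.p.map (ψ ≫ φ))),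
      m y' (ψ ≫ φ) h' = ψ ≫ m y φ h) :
    ∃! M : x ⟶ x', 𝒮.p.map M = eqToHom e ∧
      ∀ (y : 𝒮.obj) (φ : y ⟶ x) (h : R (𝒮.p.map φ)), φ ≫ M = m y φ h := by
  have hg := hS.1
  haveI := Groth.Agent.S6409.result hg (𝒮.p.obj x)
  let ev := FibCat.evalAtId 𝒮 (𝒮.p.obj x)
  let fx' : 𝒮.p.Fiber (𝒮.p.obj x) := ⟨x', e.symm⟩
  let G := ev.objPreimage (Gerb.fib x)
  let G' := ev.objPreimage fx'
  let i₀ : ev.obj G ≅ Gerb.fib x := ev.objObjPreimageIso _
  let j₀ : ev.obj G' ≅ fx' := ev.objObjPreimageIso _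
  let top : Over (𝒮.p.obj x) := Over.mk (𝟙 _)
  let i : G.obj top ≅ x := Functor.Fiber.fiberInclusion.mapIso i₀
  let j : G'.obj top ≅ x' := Functor.Fiber.fiberInclusion.mapIso j₀
  have hi : 𝒮.p.map i.hom = eqToHom (G.w_obj top) := (map_of_fiber i₀.hom).trans rfl
  have hj : 𝒮.p.map j.hom = eqToHom ((G'.w_obj top).trans e) := (map_of_fiber j₀.hom).trans rfl
  have hii : 𝒮.p.map i.inv = eqToHom (G.w_obj top).symm := (map_of_fiber i₀.inv).trans rfl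
  let t : ∀ w : Over (𝒮.p.obj x), G.obj w ⟶ x := fun w =>
    G.map (Over.homMk w.hom (Category.comp_id _) : w ⟶ top) ≫ i.hom
  let t' : ∀ w : Over (𝒮.p.obj x), G'.obj w ⟶ x' := fun w =>
    G'.map (Over.homMk w.hom (Category.comp_id _) : w ⟶ top) ≫ j.hom
  have ht : ∀ w, 𝒮.p.map (t w) = eqToHom (G.w_obj w) ≫ w.hom := fun w => by
    show 𝒮.p.map (_ ≫ _) = _
    rw [Functor.map_comp, map_map, hi]
    simp [top]
    rfl
  have ht' : ∀ w, 𝒮.p.map (t' w) = eqToHom (G'.w_obj w) ≫ w.hom ≫ eqToHom e := fun w => by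
    show 𝒮.p.map (_ ≫ _) = _
    rw [Functor.map_comp, map_map, hj]
    simp [top]
    rfl
  have hmem : ∀ w : (Stk.sieveCat R).obj, R (𝒮.p.map (t w.obj)) := fun w => by
    rw [ht]
    exact R.downward_closed w.property _
  have nat : ∀ {w w' : (Stk.sieveCat R).obj} (n : w ⟶ w'), G.map n.hom ≫ t w'.obj = t w.obj := fun {w w'} n => by
    show G.map n.hom ≫ G.map _ ≫ i.hom = G.map _ ≫ i.hom
    rw [← Functor.map_comp_assoc]
    congr 2
    exact Over.OverMorphism.ext (Over.w n.hom)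
  have nat' : ∀ {w w' : (Stk.sieveCat R).obj} (n : w ⟶ w'), G'.map n.hom ≫ t' w'.obj = t' w.obj :=
    fun {w w'} n => by
    show G'.map n.hom ≫ G'.map _ ≫ j.hom = G'.map _ ≫ j.hom
    rw [← Functor.map_comp_assoc]
    congr 2
    exact Over.OverMorphism.ext (Over.w n.hom)
  choose g hg₁ hg₂ using fun w : (Stk.sieveCat R).obj =>
    (existsUnique_cart hg (t' w.obj) (m _ (t w.obj) (hmem w))
      (eqToHom ((G.w_obj w.obj).trans (G'.w_obj w.obj).symm)) (by rw [hm, ht, ht']; simp)).exists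
  let H := (Stk.resSieve R 𝒮).obj G
  let H' := (Stk.resSieve R 𝒮).obj G'
  let γ₀ : H.toFunctor ⟶ H'.toFunctor :=
    { app := g
      naturality := fun w w' n => by
        refine cancel hg (t' w'.obj) ?_ ?_
        · show 𝒮.p.map (G.map n.hom ≫ g w') = 𝒮.p.map (g w ≫ G'.map n.hom)
          rw [Functor.map_comp, Functor.map_comp, map_map, map_map, hg₁, hg₁]
          simp
        · show (G.map n.hom ≫ g w') ≫ t' w'.obj = (g w ≫ G'.map n.hom) ≫ t' w'.obj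
          have h' : R (𝒮.p.map (G.map n.hom ≫ t w'.obj)) := by rw [nat n]; exact hmem w
          rw [Category.assoc, Category.assoc, hg₂, nat' n, hg₂,
            ← compat (G.map n.hom) (t w'.obj) (hmem w') h']
          congr 1
          exact nat n }
  let γ : H ⟶ H' := BasedNatTrans.mk γ₀ fun w => IsHomLift.of_fac' 𝒮.p _ _ (G.w_obj _) (G'.w_obj _) (by
    show 𝒮.p.map (g w) = _
    rw [hg₁]
    simp)
  haveI : (Stk.resSieve R 𝒮).IsEquivalence := hS.2 R hR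
  obtain ⟨β, hβ⟩ := (Stk.resSieve R 𝒮).map_surjective γ
  let M : x ⟶ x' := i.inv ≫ β.toNatTrans.app top ≫ j.hom
  have hM : 𝒮.p.map M = eqToHom e := by
    show 𝒮.p.map (_ ≫ _ ≫ _) = _
    rw [Functor.map_comp, Functor.map_comp, hii, hj, map_app]
    simp
  have hkey : ∀ w : (Stk.sieveCat R).obj, t w.obj ≫ M = m _ (t w.obj) (hmem w) := fun w => by
    rw [← hg₂ w]
    have e' : β.toNatTrans.app w.obj = g w := congrArg (fun k => k.toNatTrans.app w) hβ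
    rw [← e']
    show (G.map _ ≫ i.hom) ≫ i.inv ≫ β.toNatTrans.app top ≫ j.hom = β.toNatTrans.app w.obj ≫ G'.map _ ≫ j.hom
    rw [Category.assoc, i.hom_inv_id_assoc, ← β.toNatTrans.naturality_assoc]
  have hfac : ∀ (y : 𝒮.obj) (φ : y ⟶ x) (h : R (𝒮.p.map φ)),
      ∃ (w : (Stk.sieveCat R).obj) (χ : y ⟶ G.obj w.obj), χ ≫ t w.obj = φ := fun y φ h => by
    let w : (Stk.sieveCat R).obj := ⟨Over.mk (𝒮.p.map φ), h⟩
    obtain ⟨χ, ⟨-, hχ⟩, -⟩ := existsUnique_cart hg (t w.obj) φ (eqToHom (G.w_obj w.obj).symm) (by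
      rw [ht]
      simp [w])
    exact ⟨w, χ, hχ⟩
  refine ⟨M, ⟨hM, fun y φ h => ?_⟩, fun M' hM' => ?_⟩
  · obtain ⟨w, χ, rfl⟩ := hfac y φ h
    rw [Category.assoc, hkey w, ← compat χ (t w.obj) (hmem w) h]
  · have hβ' : ∀ β₁ β₂ : G ⟶ G', (∀ w : (Stk.sieveCat R).obj,
        β₁.toNatTrans.app w.obj = β₂.toNatTrans.app w.obj) → β₁ = β₂ := fun β₁ β₂ e' =>
      (Stk.resSieve R 𝒮).map_injective (BasedNatTrans.ext _ _ (NatTrans.ext (funext e')))
    let δ : ev.obj G ⟶ ev.obj G' := i₀.hom ≫ fibHom (Gerb.fib x) fx' M' hM'.1 ≫ j₀.inv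
    obtain ⟨β', hb⟩ := ev.map_surjective δ
    have hb' : β'.toNatTrans.app top = i.hom ≫ M' ≫ j.inv := congrArg Subtype.val hb
    have hn : ∀ w : (Stk.sieveCat R).obj, β'.toNatTrans.app w.obj ≫ t' w.obj = t w.obj ≫ M' := fun w => by
      show β'.toNatTrans.app w.obj ≫ G'.map _ ≫ j.hom = (G.map _ ≫ i.hom) ≫ M'
      rw [← β'.toNatTrans.naturality_assoc, hb']
      simp
    have e' : β' = β := hβ' _ _ fun w => by
      refine cancel hg (t' w.obj) (by rw [map_app, map_app]) ?_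
      rw [hn w, hM'.2 _ (t w.obj) (hmem w), show β.toNatTrans.app w.obj = g w from
        congrArg (fun k => k.toNatTrans.app w) hβ, hg₂]
    show M' = i.inv ≫ β.toNatTrans.app top ≫ j.hom
    rw [← e', hb']
    simp

/-- morphisms are determined locally -/
theorem hom_ext_local (hS : Stk.IsStack J 𝒮) {x x' : 𝒮.obj} {e : 𝒮.p.obj x = 𝒮.p.obj x'} {M M' : x ⟶ x'}
    (hM : 𝒮.p.map M = eqToHom e) (hM' : 𝒮.p.map M' = eqToHom e)
    {R : Sieve (𝒮.p.obj x)} (hR : R ∈ J (𝒮.p.obj x))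
    (h : ∀ ⦃V : C⦄ (f : V ⟶ 𝒮.p.obj x), R f →
      ∃ (y : 𝒮.obj) (φ : y ⟶ x) (hy : 𝒮.p.obj y = V), 𝒮.p.map φ = eqToHom hy ≫ f ∧ φ ≫ M = φ ≫ M') :
    M = M' := by
  refine (existsUnique_glueHom hS e hR (fun y φ _ => φ ≫ M)
    (fun y φ _ => by rw [Functor.map_comp, hM]) (fun y' y ψ φ _ _ => Category.assoc _ _ _)).unique
    ⟨hM, fun _ _ _ => rfl⟩ ⟨hM', fun y φ hφ => ?_⟩
  obtain ⟨y₀, φ₀, hy, hφ₀, heq⟩ := h _ hφ
  obtain ⟨χ, ⟨-, hχ⟩, -⟩ := existsUnique_cart hS.1 φ₀ φ (eqToHom hy.symm) (by rw [hφ₀]; simp)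
  rw [← hχ, Category.assoc, Category.assoc, heq]

end Groth.Agent.GerbLib
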