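import Groth.Agent.GerbLib.Glue
import Groth.Prelude.Def_StGerb2

/-!
Morphisms of neutral gerbes: bijectivity on the automorphisms of the section gives an equivalence,
and conjugation to the identity gives an isomorphism with the identity functor.
-/

set_option autoImplicit false
set_option backward.isDefEq.respectTransparency false
set_option backward.isDefEq.respectTransparency.types false
set_option linter.style.haveILetI false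
universe v u

namespace Groth.Agent.GerbLib

open CategoryTheory Category Groth.Agent.FibCatRep Band

variable {C : Type u} [Category.{v} C] {J : GrothendieckTopology C}
  {𝒳 𝒴 : BasedCategory.{v, max u v} C}

/-- members of a covering sieve on which an object receives a map from the section -/
lemma exists_cover_to (h𝒳 : Gerb.IsGerbe J 𝒳) {s : 𝒳.obj} (hs : ∀ U : C, Nonempty (U ⟶ 𝒳.p.obj s))
    (x : 𝒳.obj) : ∃ R ∈ J (𝒳.p.obj x), ∀ ⦃V : C⦄ (f : V ⟶ 𝒳.p.obj x), R f →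
      ∃ (y : 𝒳.obj) (φ : y ⟶ x) (hy : 𝒳.p.obj y = V), 𝒳.p.map φ = eqToHom hy ≫ f ∧ Nonempty (y ⟶ s) := by
  obtain ⟨z, τ, hz, -⟩ := exists_lift h𝒳.1.1 (x := s) (hs (𝒳.p.obj x)).some
  obtain ⟨R, hR, hR'⟩ := locHom_at h𝒳.2.2 x z (eqToHom hz.symm) rfl
    (IsHomLift.of_fac' (FibCat.selfOver C).p _ _ rfl hz (by simp; rfl))
  refine ⟨R, hR, fun V f hf => ?_⟩
  obtain ⟨y, φ, ψ, hφ, -, -⟩ := hR' f hf
  exact ⟨y, φ, IsHomLift.domain_eq 𝒳.p f φ, (IsHomLift.fac' 𝒳.p f φ).trans (by simp), ⟨ψ ≫ τ⟩⟩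

/-- two objects over one object are locally isomorphic -/
lemma exists_cover_pair (h𝒳 : Gerb.IsGerbe J 𝒳) {x x' : 𝒳.obj} (e : 𝒳.p.obj x = 𝒳.p.obj x') :
    ∃ R ∈ J (𝒳.p.obj x), ∀ (y : 𝒳.obj) (φ : y ⟶ x), R (𝒳.p.map φ) →
      ∃ ψ : y ⟶ x', 𝒳.p.map ψ = 𝒳.p.map φ ≫ eqToHom e := by
  obtain ⟨R, hR, hR'⟩ := locHom_at h𝒳.2.2 x x' (eqToHom e) rfl
    (IsHomLift.of_fac' (FibCat.selfOver C).p _ _ rfl e.symm (by simp; rfl))
  refine ⟨R, hR, fun y φ h => ?_⟩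
  obtain ⟨x₀, φ₀, ψ₀, hφ, hψ, he⟩ := hR' _ h
  have h₀ := IsHomLift.domain_eq 𝒳.p (𝒳.p.map φ) φ₀
  obtain ⟨χ, ⟨hχ, hc⟩, -⟩ := existsUnique_cart h𝒳.1.1 φ₀ φ (eqToHom h₀.symm)
    (by rw [IsHomLift.fac' 𝒳.p (𝒳.p.map φ) φ₀]; simp)
  refine ⟨χ ≫ ψ₀, ?_⟩
  have he' : 𝒳.p.map φ₀ ≫ eqToHom e = 𝒳.p.map ψ₀ := he
  rw [Functor.map_comp, hχ, ← he', IsHomLift.fac' 𝒳.p (𝒳.p.map φ) φ₀]
  simp

lemma w_cancel (F : 𝒳 ⥤ᵇ 𝒴) {a b : 𝒳.obj} {m m' : a ⟶ b} (h : F.map m = F.map m') :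
    𝒳.p.map m = 𝒳.p.map m' := by
  have h' := congrArg 𝒴.p.map h
  rw [map_map, map_map] at h'
  rwa [cancel_epi, cancel_mono] at h'

lemma map_autO (F : 𝒳 ⥤ᵇ 𝒴) {x : 𝒳.obj} (α : Gerb.AutO x) :
    ah (Gerb.autMap F x α) = F.map (ah α) := rfl

section main

variable (h𝒳 : Gerb.IsGerbe J 𝒳) (h𝒴 : Gerb.IsGerbe J 𝒴) (F : 𝒳 ⥤ᵇ 𝒴) {s : 𝒳.obj}
  (hs : ∀ U : C, Nonempty (U ⟶ 𝒳.p.obj s))
  (hF : ∀ (x : 𝒳.obj), Nonempty (x ⟶ s) → Function.Bijective (Gerb.autMap F x))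

/-- morphisms into an image are determined on a cover of the source -/
lemma hom_ext_image (hY : Stk.IsStack J 𝒴) (hX : FibCat.IsFibGrpd 𝒳.p) (F : 𝒳 ⥤ᵇ 𝒴) {x : 𝒳.obj}
    {z : 𝒴.obj} {e : 𝒴.p.obj (F.obj x) = 𝒴.p.obj z} {M M' : F.obj x ⟶ z}
    (hM : 𝒴.p.map M = eqToHom e) (hM' : 𝒴.p.map M' = eqToHom e)
    {R : Sieve (𝒳.p.obj x)} (hR : R ∈ J (𝒳.p.obj x))
    (h : ∀ ⦃V : C⦄ (f : V ⟶ 𝒳.p.obj x), R f →
      ∃ (y : 𝒳.obj) (φ : y ⟶ x) (hy : 𝒳.p.obj y = V), 𝒳.p.map φ = eqToHom hy ≫ f ∧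
        F.map φ ≫ M = F.map φ ≫ M') :
    M = M' := by
  refine hom_ext_local hY hM hM' (J.pullback_stable (eqToHom (F.w_obj x)) hR) fun V f hf => ?_
  obtain ⟨y, φ, hy, hφ, he⟩ := h _ hf
  exact ⟨F.obj y, F.map φ, (F.w_obj y).trans hy, by rw [map_map, hφ]; simp, he⟩

/-- morphisms out of an image with the same base are determined on a cover of the source -/
lemma hom_ext_image' (hY : Stk.IsStack J 𝒴) (hX : FibCat.IsFibGrpd 𝒳.p) (F : 𝒳 ⥤ᵇ 𝒴) {x : 𝒳.obj}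
    {z : 𝒴.obj} {M M' : F.obj x ⟶ z} (hp : 𝒴.p.map M = 𝒴.p.map M')
    {R : Sieve (𝒳.p.obj x)} (hR : R ∈ J (𝒳.p.obj x))
    (h : ∀ ⦃V : C⦄ (f : V ⟶ 𝒳.p.obj x), R f →
      ∃ (y : 𝒳.obj) (φ : y ⟶ x) (hy : 𝒳.p.obj y = V), 𝒳.p.map φ = eqToHom hy ≫ f ∧
        F.map φ ≫ M = F.map φ ≫ M') :
    M = M' := by
  obtain ⟨z₁, ψ, hz₁, hψ⟩ := exists_lift hY.1 (x := z) (𝒴.p.map M)
  obtain ⟨μ, ⟨hμ, hμ'⟩, -⟩ := existsUnique_cart hY.1 ψ M (eqToHom hz₁.symm) (by rw [hψ]; simp)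
  obtain ⟨ν, ⟨hν, hν'⟩, -⟩ := existsUnique_cart hY.1 ψ M' (eqToHom hz₁.symm) (by rw [hψ]; simp [hp])
  rw [← hμ', ← hν', hom_ext_image hY hX F hμ hν hR fun V f hf => ?_]
  obtain ⟨y, φ, hy, hφ, he⟩ := h f hf
  refine ⟨y, φ, hy, hφ, cancel hY.1 ψ (by rw [Functor.map_comp, Functor.map_comp, hμ, hν]) ?_⟩
  rw [Category.assoc, Category.assoc, hμ', hν', he]

include h𝒳 h𝒴 hs hF in
theorem autMap_bijective (x : 𝒳.obj) : Function.Bijective (Gerb.autMap F x) := by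
  have hg := h𝒳.1.1
  obtain ⟨R, hR, hR'⟩ := exists_cover_to h𝒳 hs x
  refine ⟨fun α α' h => ?_, fun β => ?_⟩
  · apply autO_ext
    refine hom_ext_local h𝒳.1 ((map_ah α).trans (eqToHom_refl _ rfl).symm)
      ((map_ah α').trans (eqToHom_refl _ rfl).symm) hR fun V f hf => ?_
    obtain ⟨y, φ, hy, hφ, ht⟩ := hR' f hf
    refine ⟨y, φ, hy, hφ, ?_⟩
    obtain ⟨a, ha, -⟩ := existsUnique_conj hg φ α
    obtain ⟨a', ha', -⟩ := existsUnique_conj hg φ α'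
    rw [← ha, ← ha', show a = a' from (hF y ht).1 ?_]
    apply autO_ext
    refine cancel h𝒴.1.1 (F.map φ) (by rw [map_ah, map_ah]) ?_
    rw [map_autO, map_autO, ← Functor.map_comp, ← Functor.map_comp, ha, ha', Functor.map_comp,
      Functor.map_comp]
    rw [← map_autO, ← map_autO, h]
  · have hto : ∀ (y : 𝒳.obj) (φ : y ⟶ x), R (𝒳.p.map φ) → Nonempty (y ⟶ s) := fun y φ h => by
      obtain ⟨y₀, φ₀, hy, hφ₀, ⟨t⟩⟩ := hR' _ h
      obtain ⟨χ, -, -⟩ := existsUnique_cart hg φ₀ φ (eqToHom hy.symm) (by rw [hφ₀]; simp)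
      exact ⟨χ ≫ t⟩
    choose b hb hbu using fun (y : 𝒳.obj) (φ : y ⟶ x) => existsUnique_conj h𝒴.1.1 (F.map φ) β
    choose a ha using fun (y : 𝒳.obj) (φ : y ⟶ x) (h : R (𝒳.p.map φ)) => (hF y (hto y φ h)).2 (b y φ)
    have ha' : ∀ y φ h, F.map (ah (a y φ h)) = ah (b y φ) := fun y φ h => congrArg ah (ha y φ h)
    obtain ⟨α, hα, -⟩ := existsUnique_glue h𝒳.1 hR a fun y' y ψ φ h h' => by
      obtain ⟨c, hc, -⟩ := existsUnique_conj hg ψ (a y φ h)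
      rw [← hc, show a y' (ψ ≫ φ) h' = c from (hF y' (hto _ _ h')).1 ?_]
      refine (ha y' _ h').trans (hbu y' _ _ ?_).symm
      show ah _ ≫ F.map (ψ ≫ φ) = _
      rw [map_autO, Functor.map_comp, ← Category.assoc, ← Functor.map_comp, hc, Functor.map_comp,
        Category.assoc, ha', hb, Category.assoc]
    refine ⟨α, autO_ext (hom_ext_image h𝒴.1 hg F ((map_ah _).trans (eqToHom_refl _ rfl).symm)
      ((map_ah β).trans (eqToHom_refl _ rfl).symm) hR fun V f hf => ?_)⟩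
    obtain ⟨y, φ, hy, hφ, -⟩ := hR' f hf
    have h : R (𝒳.p.map φ) := by rw [hφ]; exact R.downward_closed hf _
    refine ⟨y, φ, hy, hφ, ?_⟩
    rw [map_autO, ← Functor.map_comp, ← hα y φ h, Functor.map_comp, ha', hb]

include h𝒳 h𝒴 hs hF in
theorem faithful : F.toFunctor.Faithful where
  map_injective {a b} {m m'} h := by
    have hg := h𝒳.1.1
    obtain ⟨χ, ⟨hχ, hc⟩, -⟩ := existsUnique_cart hg m' m (𝟙 _) (by rw [id_comp, w_cancel F h])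
    obtain ⟨α, hα⟩ := exists_autO hg χ hχ
    have h1 : ah (Gerb.autMap F a α) = ah (1 : Gerb.AutO (F.obj a)) := by
      refine cancel h𝒴.1.1 (F.map m') (by rw [map_ah, map_ah]) ?_
      rw [map_autO, hα, ← Functor.map_comp, hc, ah_one, id_comp]
      exact h
    have h2 : α = 1 := (autMap_bijective h𝒳 h𝒴 F hs hF a).1
      ((autO_ext h1).trans (map_one (Gerb.autMap F a)).symm)
    rw [← hc, ← hα, h2, ah_one, id_comp]

include h𝒳 h𝒴 hs hF in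
lemma exists_hom_over_id {x x' : 𝒳.obj} (b : F.obj x ⟶ F.obj x') (e : 𝒳.p.obj x = 𝒳.p.obj x')
    (hb : 𝒴.p.map b = eqToHom ((F.w_obj x).trans (e.trans (F.w_obj x').symm))) :
    ∃ M : x ⟶ x', F.map M = b := by
  have hg := h𝒳.1.1
  have := faithful h𝒳 h𝒴 F hs hF
  obtain ⟨R, hR, hR'⟩ := exists_cover_pair h𝒳 e
  have hloc : ∀ (y : 𝒳.obj) (φ : y ⟶ x), R (𝒳.p.map φ) →
      ∃ m : y ⟶ x', 𝒳.p.map m = 𝒳.p.map φ ≫ eqToHom e ∧ F.map m = F.map φ ≫ b := fun y φ h => by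
    obtain ⟨ψ, hψ⟩ := hR' y φ h
    obtain ⟨k, ⟨hk, hk'⟩, -⟩ := existsUnique_cart h𝒴.1.1 (F.map ψ) (F.map φ ≫ b) (𝟙 _)
      (by rw [Functor.map_comp, map_map, map_map, hb, hψ]; simp)
    obtain ⟨β, hβ⟩ := exists_autO h𝒴.1.1 k hk
    obtain ⟨α, hα⟩ := (autMap_bijective h𝒳 h𝒴 F hs hF y).2 β
    refine ⟨ah α ≫ ψ, by rw [Functor.map_comp, map_ah, id_comp, hψ], ?_⟩
    rw [Functor.map_comp, ← map_autO, hα, hβ, hk']
  choose m hm hm' using hloc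
  obtain ⟨M, ⟨hM, hM'⟩, -⟩ := existsUnique_glueHom h𝒳.1 e hR m hm fun y' y ψ φ h h' =>
    F.toFunctor.map_injective (by rw [Functor.map_comp, hm', hm', Functor.map_comp, Category.assoc])
  refine ⟨M, hom_ext_image h𝒴.1 hg F
    (e := (F.w_obj x).trans (e.trans (F.w_obj x').symm)) (by rw [map_map, hM]; simp) hb hR
    fun V f hf => ?_⟩
  obtain ⟨y, φ, hy, hφ⟩ := exists_lift hg f
  refine ⟨y, φ, hy, hφ, ?_⟩
  rw [← Functor.map_comp, hM' y φ (by rw [hφ]; exact R.downward_closed hf _), hm']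

include h𝒳 h𝒴 hs hF in
theorem full : F.toFunctor.Full where
  map_surjective {a c} b := by
    obtain ⟨z, ψ, hz, hψ⟩ := exists_lift h𝒳.1.1 (x := c)
      (eqToHom (F.w_obj a).symm ≫ 𝒴.p.map b ≫ eqToHom (F.w_obj c))
    obtain ⟨b₀, ⟨hb₀, hb₀'⟩, -⟩ := existsUnique_cart h𝒴.1.1 (F.map ψ) b
      (eqToHom ((F.w_obj a).trans (hz.symm.trans (F.w_obj z).symm))) (by rw [map_map, hψ]; simp)
    obtain ⟨M, hM⟩ := exists_hom_over_id h𝒳 h𝒴 F hs hF b₀ hz.symm (hb₀.trans (by simp))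
    exact ⟨M ≫ ψ, by rw [Functor.map_comp, hM, hb₀']⟩

include h𝒳 h𝒴 hs hF in
theorem exists_preimage (η : 𝒴.obj) : ∃ (ξ : 𝒳.obj) (e : F.obj ξ ≅ η)
    (hξ : 𝒴.p.obj (F.obj ξ) = 𝒴.p.obj η), 𝒴.p.map e.hom = eqToHom hξ := by
  have hgX := h𝒳.1.1
  have hgY := h𝒴.1.1
  have := faithful h𝒳 h𝒴 F hs hF
  have := full h𝒳 h𝒴 F hs hF
  obtain ⟨z, τ, hz, -⟩ := exists_lift hgX (x := s) (hs (𝒴.p.obj η)).some
  obtain ⟨R, hR, hR'⟩ := exists_cover_pair h𝒴 (x := η) (x' := F.obj z) (hz.symm.trans (F.w_obj z).symm)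
  have hpre : ∀ w : (Stk.sieveCat R).obj, ∃ (x₀ : 𝒳.obj) (g : F.obj x₀ ⟶ η) (h₀ : 𝒳.p.obj x₀ = w.obj.left),
      𝒴.p.map g = eqToHom ((F.w_obj x₀).trans h₀) ≫ w.obj.hom := fun w => by
    obtain ⟨y, φ, hy, hφ⟩ := exists_lift hgY (x := η) w.obj.hom
    obtain ⟨ψ, hψ⟩ := hR' y φ (by rw [hφ]; exact R.downward_closed w.property _)
    obtain ⟨x₀, c, h₀, hc⟩ := exists_lift hgX (x := z) (w.obj.hom ≫ eqToHom hz.symm)
    obtain ⟨k, ⟨hk, hk'⟩, -⟩ := existsUnique_cart hgY ψ (F.map c)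
      (eqToHom ((F.w_obj x₀).trans (h₀.trans hy.symm))) (by rw [hψ, hφ, map_map, hc]; simp)
    exact ⟨x₀, k ≫ φ, h₀, by rw [Functor.map_comp, hk, hφ]; simp⟩
  choose ξ g h₀ hgm using hpre
  have hmor : ∀ {w w' : (Stk.sieveCat R).obj} (n : w ⟶ w'), ∃ m : ξ w ⟶ ξ w',
      𝒳.p.map m = eqToHom (h₀ w) ≫ n.hom.left ≫ eqToHom (h₀ w').symm ∧ F.map m ≫ g w' = g w :=
    fun {w w'} n => by
    obtain ⟨k, ⟨hk, hk'⟩, -⟩ := existsUnique_cart hgY (g w') (g w)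
      (eqToHom ((F.w_obj _).trans (h₀ w)) ≫ n.hom.left ≫ eqToHom ((F.w_obj _).trans (h₀ w')).symm)
      (by rw [hgm, hgm, ← Over.w n.hom]; simp)
    refine ⟨F.toFunctor.preimage k, ?_, by rw [Functor.map_preimage, hk']⟩
    have h := map_map F (F.toFunctor.preimage k)
    rw [Functor.map_preimage, hk, eq_comm, ← cancel_epi (eqToHom (F.w_obj (ξ w)).symm),
      ← cancel_mono (eqToHom (F.w_obj (ξ w')))] at h
    simpa using h
  choose mor hmor₁ hmor₂ using @hmor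
  have huniq : ∀ {w w' : (Stk.sieveCat R).obj} {m m' : ξ w ⟶ ξ w'}, 𝒳.p.map m = 𝒳.p.map m' →
      F.map m ≫ g w' = F.map m' ≫ g w' → m = m' := fun {w w' m m'} h h' =>
    F.toFunctor.map_injective (cancel hgY (g w') (by rw [map_map, map_map, h]) h')
  let H : Stk.sieveCat R ⥤ᵇ 𝒳 :=
    { toFunctor :=
        { obj := ξ
          map := fun n => mor n
          map_id := fun w => huniq (by
            rw [hmor₁]
            show eqToHom _ ≫ 𝟙 w.obj.left ≫ eqToHom _ = _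
            simp) (by rw [hmor₂]; simp)
          map_comp := fun {a b c} n n' => huniq (by
            rw [hmor₁, Functor.map_comp, hmor₁, hmor₁]
            show eqToHom _ ≫ (n.hom.left ≫ n'.hom.left) ≫ eqToHom _ = _
            simp)
            (by rw [hmor₂, Functor.map_comp, Category.assoc, hmor₂, hmor₂]) }
      w := CategoryTheory.Functor.ext h₀ fun w w' n => hmor₁ n }
  haveI : (Stk.resSieve R 𝒳).IsEquivalence := h𝒳.1.2 R hR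
  let G := (Stk.resSieve R 𝒳).objPreimage H
  let γ : (Stk.resSieve R 𝒳).obj G ≅ H := (Stk.resSieve R 𝒳).objObjPreimageIso H
  let top : Over (𝒴.p.obj η) := Over.mk (𝟙 _)
  let x := G.obj top
  have hx : 𝒳.p.obj x = 𝒴.p.obj η := G.w_obj top
  let t : ∀ w : Over (𝒴.p.obj η), G.obj w ⟶ x := fun w =>
    G.map (Over.homMk w.hom (Category.comp_id _) : w ⟶ top)
  have ht : ∀ w, 𝒳.p.map (t w) = eqToHom (G.w_obj w) ≫ w.hom ≫ eqToHom hx.symm := fun w => map_map G _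
  have nat : ∀ {w w' : (Stk.sieveCat R).obj} (n : w ⟶ w'), G.map n.hom ≫ t w'.obj = t w.obj :=
    fun {w w'} n => by
    show G.map n.hom ≫ G.map _ = G.map _
    rw [← Functor.map_comp]
    congr 1
    exact Over.OverMorphism.ext (Over.w n.hom)
  let l : ∀ w : (Stk.sieveCat R).obj, F.obj (G.obj w.obj) ⟶ η :=
    fun w => F.map (γ.hom.toNatTrans.app w) ≫ g w
  have hl : ∀ w, 𝒴.p.map (l w) = eqToHom ((F.w_obj _).trans (G.w_obj w.obj)) ≫ w.obj.hom := fun w => by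
    show 𝒴.p.map (_ ≫ _) = _
    rw [Functor.map_comp, map_map, hgm, map_app]
    simp
  have hlnat : ∀ {w w' : (Stk.sieveCat R).obj} (n : w ⟶ w'), F.map (G.map n.hom) ≫ l w' = l w :=
    fun {w w'} n => by
    have h := γ.hom.toNatTrans.naturality n
    show F.map (G.map n.hom) ≫ F.map _ ≫ g w' = F.map _ ≫ g w
    rw [← Functor.map_comp_assoc]
    refine (congrArg (fun k => F.map k ≫ g w') h).trans ?_
    rw [Functor.map_comp, Category.assoc]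
    congr 1
    exact hmor₂ n
  have eU : 𝒴.p.obj (F.obj x) = 𝒴.p.obj η := (F.w_obj x).trans hx
  let R' : Sieve (𝒴.p.obj (F.obj x)) := R.pullback (eqToHom eU)
  have hR'' : R' ∈ J _ := J.pullback_stable _ hR
  let wOf : ∀ (y : 𝒴.obj) (φ : y ⟶ F.obj x), R' (𝒴.p.map φ) → (Stk.sieveCat R).obj :=
    fun y φ h => ⟨Over.mk (𝒴.p.map φ ≫ eqToHom eU), h⟩
  choose k hk hk' using fun (y : 𝒴.obj) (φ : y ⟶ F.obj x) (h : R' (𝒴.p.map φ)) =>
    (existsUnique_cart hgY (F.map (t (wOf y φ h).obj)) φ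
      (eqToHom ((F.w_obj _).trans (G.w_obj (wOf y φ h).obj)).symm) (by
        rw [map_map, ht]; simp [wOf])).exists
  obtain ⟨M, ⟨hM, -⟩, -⟩ := existsUnique_glueHom h𝒴.1 eU hR'' (fun y φ h => k y φ h ≫ l (wOf y φ h))
    (fun y φ h => by rw [Functor.map_comp, hk, hl]; simp [wOf]) fun y' y ψ φ h h' => by
    let n : wOf y' (ψ ≫ φ) h' ⟶ wOf y φ h :=
      ⟨Over.homMk (𝒴.p.map ψ) (by simp [wOf])⟩
    have key : k _ _ h' ≫ F.map (G.map n.hom) = ψ ≫ k y φ h := ?_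
    · calc k _ _ h' ≫ l _ = k _ _ h' ≫ F.map (G.map n.hom) ≫ l _ := congrArg (k _ _ h' ≫ ·) (hlnat n).symm
        _ = (k _ _ h' ≫ F.map (G.map n.hom)) ≫ l _ := (Category.assoc _ _ _).symm
        _ = (ψ ≫ k y φ h) ≫ l _ := congrArg (· ≫ l (wOf y φ h)) key
        _ = ψ ≫ k y φ h ≫ l _ := Category.assoc _ _ _
    refine cancel hgY (F.map (t (wOf y φ h).obj)) ?_ ?_
    · rw [Functor.map_comp, Functor.map_comp, hk, hk, map_map, map_map]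
      simp [n]
      rfl
    · rw [Category.assoc, Category.assoc, ← Functor.map_comp, nat n, hk', hk']
  haveI : IsIso (𝒴.p.map M) := by rw [hM]; infer_instance
  haveI := FibCatRep.isIso_of_map hgY M
  exact ⟨x, asIso M, eU, hM⟩

include h𝒳 h𝒴 hs hF in
theorem isEquivOver_of_autMap_bijective : FibCat.IsEquivOver F := by
  have := faithful h𝒳 h𝒴 F hs hF
  have := full h𝒳 h𝒴 F hs hF
  exact isEquivOver_of_fullyFaithful F (exists_preimage h𝒳 h𝒴 F hs hF)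

end main

section conj

variable (h𝒳 : Gerb.IsGerbe J 𝒳) (F : 𝒳 ⥤ᵇ 𝒳) {x : 𝒳.obj}
  (hu : ∀ U : C, Nonempty (U ⟶ 𝒳.p.obj x)) (hsub : ∀ (U : C) (a b : U ⟶ 𝒳.p.obj x), a = b)
  (g : F.obj x ⟶ x) (hg : 𝒳.p.map g = eqToHom (F.w_obj x))
  (hconj : ∀ (x' : 𝒳.obj) (c : x' ⟶ x) (g' : F.obj x' ⟶ x'), 𝒳.p.map g' = eqToHom (F.w_obj x') →
    F.map c ≫ g = g' ≫ c → ∀ α : Gerb.AutO x', F.map α.hom.1 ≫ g' = g' ≫ α.hom.1)

include h𝒳 hu hsub hg hconj in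
theorem exists_natural_iso_id :
    ∃ ρ : ∀ y : 𝒳.obj, F.obj y ⟶ y,
      (∀ y, IsIso (ρ y) ∧ 𝒳.p.map (ρ y) = eqToHom (F.w_obj y)) ∧
      ∀ (y y' : 𝒳.obj) (f : y ⟶ y'), F.map f ≫ ρ y' = ρ y ≫ f := by
  have hgX := h𝒳.1.1
  -- the canonical isomorphism at an object mapping to `x`
  let P : ∀ z : 𝒳.obj, (F.obj z ⟶ z) → Prop := fun z gz =>
    𝒳.p.map gz = eqToHom (F.w_obj z) ∧ ∀ c : z ⟶ x, F.map c ≫ g = gz ≫ c
  have hP : ∀ z : 𝒳.obj, Nonempty (z ⟶ x) → ∃ gz, P z gz := by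
    rintro z ⟨c₀⟩
    obtain ⟨gz, ⟨hgz, hgz'⟩, -⟩ := existsUnique_cart hgX c₀ (F.map c₀ ≫ g) (eqToHom (F.w_obj z))
      (by rw [Functor.map_comp, map_map, hg]; simp)
    refine ⟨gz, hgz, fun c => ?_⟩
    obtain ⟨χ, ⟨hχ, hχ'⟩, -⟩ := existsUnique_cart hgX c₀ c (𝟙 _) (by rw [id_comp, hsub _ (𝒳.p.map c₀) (𝒳.p.map c)])
    obtain ⟨α, hα⟩ := exists_autO hgX χ hχ
    have h := hconj z c₀ gz hgz hgz'.symm α
    rw [← hχ', ← hα, Functor.map_comp, Category.assoc, ← hgz']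
    show F.map (ah α) ≫ gz ≫ c₀ = gz ≫ ah α ≫ c₀
    rw [← Category.assoc, show F.map (ah α) ≫ gz = gz ≫ ah α from h, Category.assoc]
  have hnat : ∀ {z z' : 𝒳.obj} (a : z' ⟶ z) (gz : F.obj z ⟶ z) (gz' : F.obj z' ⟶ z'),
      Nonempty (z ⟶ x) → P z gz → P z' gz' → F.map a ≫ gz = gz' ≫ a := by
    rintro z z' a gz gz' ⟨c⟩ hz hz'
    refine cancel hgX c ?_ ?_
    · rw [Functor.map_comp, Functor.map_comp, map_map, hz.1, hz'.1]; simp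
    · rw [Category.assoc, Category.assoc, ← hz.2 c, ← hz'.2 (a ≫ c), Functor.map_comp, Category.assoc]
  -- gluing
  have hρ : ∀ y : 𝒳.obj, ∃ ρ : F.obj y ⟶ y, 𝒳.p.map ρ = eqToHom (F.w_obj y) ∧
      ∀ (z : 𝒳.obj) (a : z ⟶ y) (gz : F.obj z ⟶ z), Nonempty (z ⟶ x) → P z gz →
        F.map a ≫ ρ = gz ≫ a := by
    intro y
    obtain ⟨R, hR, hR'⟩ := exists_cover_to h𝒳 hu y
    have hR'' : R.pullback (eqToHom (F.w_obj y)) ∈ J _ := J.pullback_stable _ hR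
    have hloc : ∀ (w : 𝒳.obj) (φ : w ⟶ F.obj y), R (𝒳.p.map φ ≫ eqToHom (F.w_obj y)) →
        ∃ m : w ⟶ y, 𝒳.p.map m = 𝒳.p.map φ ≫ eqToHom (F.w_obj y) ∧
          ∀ (z : 𝒳.obj) (a : z ⟶ y) (gz : F.obj z ⟶ z) (χ : w ⟶ F.obj z), Nonempty (z ⟶ x) →
            P z gz → χ ≫ F.map a = φ → m = χ ≫ gz ≫ a := by
      intro w φ h
      obtain ⟨z₀, a₀, hz₀, ha₀, hc₀⟩ := hR' _ h
      obtain ⟨gz₀, hgz₀⟩ := hP z₀ hc₀
      obtain ⟨χ₀, ⟨hχ₀, hχ₀'⟩, -⟩ := existsUnique_cart hgX (F.map a₀) φ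
        (eqToHom ((F.w_obj z₀).trans hz₀).symm) (by rw [map_map, ha₀]; simp)
      refine ⟨χ₀ ≫ gz₀ ≫ a₀, by rw [Functor.map_comp, Functor.map_comp, hχ₀, hgz₀.1, ha₀]; simp,
        fun z a gz χ hc hz hχ => ?_⟩
      have hb : (eqToHom hz₀ ≫ 𝒳.p.map χ ≫ eqToHom (F.w_obj z)) ≫ 𝒳.p.map a = 𝒳.p.map a₀ := by
        have h1 := congrArg 𝒳.p.map hχ
        rw [Functor.map_comp, map_map, ← cancel_mono (eqToHom (F.w_obj y))] at h1
        simp only [Category.assoc, eqToHom_trans, eqToHom_refl, comp_id] at h1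
        rw [ha₀, ← h1]
        simp
      obtain ⟨j, ⟨hj, hj'⟩, -⟩ := existsUnique_cart hgX a a₀ _ hb
      have hχeq : χ = χ₀ ≫ F.map j := by
        refine cancel hgX (F.map a) ?_ ?_
        · rw [Functor.map_comp, map_map, hj, hχ₀]; simp
        · rw [Category.assoc, ← Functor.map_comp, hj', hχ₀', hχ]
      rw [hχeq, ← hj', Category.assoc, ← reassoc_of% (hnat j gz gz₀ hc hz hgz₀)]
    choose m hm hm' using hloc
    obtain ⟨ρ, ⟨hρ₁, hρ₂⟩, -⟩ := existsUnique_glueHom h𝒳.1 (F.w_obj y) hR'' m hm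
      fun w' w ψ φ h h' => by
        obtain ⟨z, a, hz, ha, hc⟩ := hR' _ h
        obtain ⟨gz, hgz⟩ := hP z hc
        obtain ⟨χ, ⟨-, hχ⟩, -⟩ := existsUnique_cart hgX (F.map a) φ
          (eqToHom ((F.w_obj z).trans hz).symm) (by rw [map_map, ha]; simp)
        rw [hm' w φ h z a gz χ hc hgz hχ,
          hm' w' (ψ ≫ φ) h' z a gz (ψ ≫ χ) hc hgz (by rw [Category.assoc, hχ]), Category.assoc]
    refine ⟨ρ, hρ₁, fun z a gz hc hz => ?_⟩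
    refine hom_ext_image' h𝒳.1 hgX F ?_ (J.pullback_stable (𝒳.p.map a) hR) fun V f hf => ?_
    · rw [Functor.map_comp, Functor.map_comp, map_map, hρ₁, hz.1]; simp
    · obtain ⟨z', φ, hz', hφ⟩ := exists_lift hgX f
      have hc' : Nonempty (z' ⟶ x) := hc.map (φ ≫ ·)
      obtain ⟨gz', hgz'⟩ := hP z' hc'
      refine ⟨z', φ, hz', hφ, ?_⟩
      have hmem : R (𝒳.p.map (F.map (φ ≫ a)) ≫ eqToHom (F.w_obj y)) := by
        rw [map_map, Functor.map_comp, hφ]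
        simp only [Category.assoc, eqToHom_trans, eqToHom_refl, comp_id]
        rw [eqToHom_trans_assoc]
        exact R.downward_closed hf _
      rw [← Functor.map_comp_assoc, hρ₂ _ (F.map (φ ≫ a)) hmem,
        hm' _ _ hmem z' (φ ≫ a) gz' (𝟙 _) hc' hgz' (id_comp _), id_comp,
        reassoc_of% (hnat φ gz gz' hc hz hgz')]
  choose ρ hρ₁ hρ₂ using hρ
  refine ⟨ρ, fun y => ⟨?_, hρ₁ y⟩, fun y y' f => ?_⟩
  · haveI : IsIso (𝒳.p.map (ρ y)) := by rw [hρ₁]; infer_instance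
    exact FibCatRep.isIso_of_map hgX (ρ y)
  · obtain ⟨R, hR, hR'⟩ := exists_cover_to h𝒳 hu y
    refine hom_ext_image' h𝒳.1 hgX F ?_ hR fun V g' hg' => ?_
    · rw [Functor.map_comp, Functor.map_comp, map_map, hρ₁, hρ₁]; simp
    · obtain ⟨z, a, hz, ha, hc⟩ := hR' g' hg'
      obtain ⟨gz, hgz⟩ := hP z hc
      refine ⟨z, a, hz, ha, ?_⟩
      rw [← Functor.map_comp_assoc, hρ₂ y' z (a ≫ f) gz hc hgz, reassoc_of% (hρ₂ y z a gz hc hgz)]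

end conj

end Groth.Agent.GerbLib
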