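import Groth.Agent.FibCatRep.Cart
import Groth.Agent.GerbLib.Basic
import Groth.Agent.S6409
import Groth.Prelude.Def_StGerb
import Mathlib.CategoryTheory.Sites.Whiskering
import Mathlib.CategoryTheory.Sites.IsSheafFor

/-!
# The band of a gerbe with commutative automorphism groups

`Sys 𝒮 U` is the group of systems of automorphisms of all objects over objects of `C/U`; for a stack it is a sheaf,
and for a gerbe with commutative automorphism groups it bands the gerbe.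
-/

set_option autoImplicit false
set_option backward.isDefEq.respectTransparency false
set_option backward.isDefEq.respectTransparency.types false
set_option linter.style.haveILetI false
universe v u

noncomputable section

namespace Groth.Agent.GerbLib.Band

open CategoryTheory Opposite Groth.Agent.FibCatRep

variable {C : Type u} [Category.{v} C] {𝒮 : BasedCategory.{v, max u v} C}

/-- the underlying morphism -/
abbrev ah {x : 𝒮.obj} (α : Gerb.AutO x) : x ⟶ x := α.hom.1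

lemma map_ah {x : 𝒮.obj} (α : Gerb.AutO x) : 𝒮.p.map (ah α) = 𝟙 (𝒮.p.obj x) :=
  (map_of_fiber α.hom).trans (eqToHom_refl _ rfl)

lemma autO_ext {x : 𝒮.obj} {α β : Gerb.AutO x} (h : ah α = ah β) : α = β :=
  Aut.ext (Functor.Fiber.hom_ext h)

lemma ah_mul {x : 𝒮.obj} (α β : Gerb.AutO x) : ah (α * β) = ah β ≫ ah α := rfl

lemma ah_one {x : 𝒮.obj} : ah (1 : Gerb.AutO x) = 𝟙 x := rfl

lemma ah_inv_comp {x : 𝒮.obj} (α : Gerb.AutO x) : ah α⁻¹ ≫ ah α = 𝟙 x :=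
  congrArg Subtype.val α.inv_hom_id

lemma ah_comp_inv {x : 𝒮.obj} (α : Gerb.AutO x) : ah α ≫ ah α⁻¹ = 𝟙 x :=
  congrArg Subtype.val α.hom_inv_id

variable (h𝒮 : FibCat.IsFibGrpd 𝒮.p)

include h𝒮 in
lemma exists_autO {x : 𝒮.obj} (φ : x ⟶ x) (h : 𝒮.p.map φ = 𝟙 (𝒮.p.obj x)) : ∃ α : Gerb.AutO x, ah α = φ := by
  haveI : IsIso (𝒮.p.map φ) := by rw [h]; infer_instance
  haveI := isIso_of_map h𝒮 φ
  have h' : 𝒮.p.map (inv φ) = 𝟙 (𝒮.p.obj x) :=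
    (map_inv_of_eqToHom φ (h := rfl) (h.trans (eqToHom_refl _ rfl).symm)).trans (eqToHom_refl _ rfl)
  exact ⟨{ hom := fibHom (Gerb.fib x) (Gerb.fib x) φ (h.trans (eqToHom_refl _ rfl).symm)
           inv := fibHom (Gerb.fib x) (Gerb.fib x) (inv φ) (h'.trans (eqToHom_refl _ rfl).symm)
           hom_inv_id := Functor.Fiber.hom_ext (IsIso.hom_inv_id φ)
           inv_hom_id := Functor.Fiber.hom_ext (IsIso.inv_hom_id φ) }, rfl⟩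

include h𝒮 in
/-- conjugation along a morphism -/
lemma existsUnique_conj {y x : 𝒮.obj} (ψ : y ⟶ x) (α : Gerb.AutO x) :
    ∃! β : Gerb.AutO y, ah β ≫ ψ = ψ ≫ ah α := by
  obtain ⟨χ, ⟨hχ, hc⟩, -⟩ := existsUnique_cart h𝒮 ψ (ψ ≫ ah α) (𝟙 _) (by simp [map_ah])
  obtain ⟨β, rfl⟩ := exists_autO h𝒮 χ hχ
  refine ⟨β, hc, fun β' h => autO_ext (cancel h𝒮 ψ ((map_ah β').trans (map_ah β).symm) (h.trans hc.symm))⟩

variable {J : GrothendieckTopology C}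

/-- automorphisms glue -/
theorem existsUnique_glue (hS : Stk.IsStack J 𝒮) {x : 𝒮.obj} {R : Sieve (𝒮.p.obj x)}
    (hR : R ∈ J (𝒮.p.obj x)) (a : ∀ (y : 𝒮.obj) (φ : y ⟶ x), R (𝒮.p.map φ) → Gerb.AutO y)
    (compat : ∀ ⦃y' y : 𝒮.obj⦄ (ψ : y' ⟶ y) (φ : y ⟶ x) (h : R (𝒮.p.map φ)) (h' : R (𝒮.p.map (ψ ≫ φ))),
      ah (a y' (ψ ≫ φ) h') ≫ ψ = ψ ≫ ah (a y φ h)) :
    ∃! α : Gerb.AutO x, ∀ (y : 𝒮.obj) (φ : y ⟶ x) (h : R (𝒮.p.map φ)), ah (a y φ h) ≫ φ = φ ≫ ah α := by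
  have hg := hS.1
  haveI := Groth.Agent.S6409.result hg (𝒮.p.obj x)
  let G := (FibCat.evalAtId 𝒮 (𝒮.p.obj x)).objPreimage (Gerb.fib x)
  let i₀ := (FibCat.evalAtId 𝒮 (𝒮.p.obj x)).objObjPreimageIso (Gerb.fib x)
  let top : Over (𝒮.p.obj x) := Over.mk (𝟙 _)
  let i : G.obj top ≅ x := Functor.Fiber.fiberInclusion.mapIso i₀
  have hi : 𝒮.p.map i.hom = eqToHom (G.w_obj top) := (map_of_fiber i₀.hom).trans rfl
  let t : ∀ w : Over (𝒮.p.obj x), G.obj w ⟶ x := fun w =>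
    G.map (Over.homMk w.hom (Category.comp_id _) : w ⟶ top) ≫ i.hom
  have ht : ∀ w, 𝒮.p.map (t w) = eqToHom (G.w_obj w) ≫ w.hom := fun w => by
    show 𝒮.p.map (_ ≫ _) = _
    rw [Functor.map_comp, map_map, hi]
    simp [top]
    rfl
  have hmem : ∀ w : (Stk.sieveCat R).obj, R (𝒮.p.map (t w.obj)) := fun w => by
    rw [ht]
    exact R.downward_closed w.property _
  have nat : ∀ {w w' : (Stk.sieveCat R).obj} (m : w ⟶ w'), G.map m.hom ≫ t w'.obj = t w.obj := fun {w w'} m => by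
    show G.map m.hom ≫ G.map _ ≫ i.hom = G.map _ ≫ i.hom
    rw [← Functor.map_comp_assoc]
    congr 2
    exact Over.OverMorphism.ext (Over.w m.hom)
  let H := (Stk.resSieve R 𝒮).obj G
  let γ₀ : H.toFunctor ⟶ H.toFunctor :=
    { app := fun w => ah (a _ (t w.obj) (hmem w))
      naturality := fun w w' m => by
        show G.map m.hom ≫ ah (a _ (t w'.obj) (hmem w')) = ah (a _ (t w.obj) (hmem w)) ≫ G.map m.hom
        have e := compat (G.map m.hom) (t w'.obj) (hmem w') (by rw [nat m]; exact hmem w)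
        rw [← e]
        congr 2
        congr 1
        exact nat m }
  let γ : H ⟶ H := BasedNatTrans.mk γ₀ fun w => IsHomLift.of_fac' 𝒮.p _ _ (G.w_obj _) (G.w_obj _) (by
    show 𝒮.p.map (ah _) = _
    rw [map_ah]
    simp)
  haveI : (Stk.resSieve R 𝒮).IsEquivalence := hS.2 R hR
  obtain ⟨β, hβ⟩ := (Stk.resSieve R 𝒮).map_surjective γ
  have hβt : 𝒮.p.map (i.inv ≫ β.toNatTrans.app top ≫ i.hom) = 𝟙 _ := by
    have e : 𝒮.p.map i.inv ≫ 𝒮.p.map i.hom = 𝟙 _ := by rw [← Functor.map_comp, i.inv_hom_id, CategoryTheory.Functor.map_id]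
    rw [Functor.map_comp, Functor.map_comp, map_app]
    simpa using e
  obtain ⟨α, hα⟩ := exists_autO hg _ hβt
  have hkey : ∀ w : (Stk.sieveCat R).obj, ah (a _ (t w.obj) (hmem w)) ≫ t w.obj = t w.obj ≫ ah α := fun w => by
    have e : β.toNatTrans.app w.obj = ah (a _ (t w.obj) (hmem w)) := congrArg (fun k => k.toNatTrans.app w) hβ
    rw [← e, hα]
    show β.toNatTrans.app w.obj ≫ G.map _ ≫ i.hom = (G.map _ ≫ i.hom) ≫ i.inv ≫ β.toNatTrans.app top ≫ i.hom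
    rw [Category.assoc, i.hom_inv_id_assoc, ← β.toNatTrans.naturality_assoc]
  have hfac : ∀ (y : 𝒮.obj) (φ : y ⟶ x) (h : R (𝒮.p.map φ)),
      ∃ (w : (Stk.sieveCat R).obj) (χ : y ⟶ G.obj w.obj), χ ≫ t w.obj = φ := fun y φ h => by
    let w : (Stk.sieveCat R).obj := ⟨Over.mk (𝒮.p.map φ), h⟩
    obtain ⟨χ, ⟨-, hχ⟩, -⟩ := existsUnique_cart hg (t w.obj) φ (eqToHom (G.w_obj w.obj).symm) (by
      rw [ht]
      simp [w])
    exact ⟨w, χ, hχ⟩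
  refine ⟨α, fun y φ h => ?_, fun α' h' => autO_ext ?_⟩
  · obtain ⟨w, χ, rfl⟩ := hfac y φ h
    rw [Category.assoc, ← hkey w]
    exact (Category.assoc _ _ _).symm.trans
      ((congrArg (· ≫ t w.obj) (compat χ (t w.obj) (hmem w) h)).trans (Category.assoc _ _ _))
  · -- uniqueness
    have hβ' : ∀ β₁ β₂ : G ⟶ G, (∀ w : (Stk.sieveCat R).obj,
        β₁.toNatTrans.app w.obj = β₂.toNatTrans.app w.obj) → β₁ = β₂ := fun β₁ β₂ e =>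
      (Stk.resSieve R 𝒮).map_injective (BasedNatTrans.ext _ _ (NatTrans.ext (funext e)))
    let δ : (FibCat.evalAtId 𝒮 (𝒮.p.obj x)).obj G ⟶ (FibCat.evalAtId 𝒮 (𝒮.p.obj x)).obj G :=
      i₀.hom ≫ α'.hom ≫ i₀.inv
    obtain ⟨β', hb⟩ := (FibCat.evalAtId 𝒮 (𝒮.p.obj x)).map_surjective δ
    have hb' : β'.toNatTrans.app top = i.hom ≫ ah α' ≫ i.inv := congrArg Subtype.val hb
    have hn : ∀ w : (Stk.sieveCat R).obj, β'.toNatTrans.app w.obj ≫ t w.obj = t w.obj ≫ ah α' := fun w => by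
      show β'.toNatTrans.app w.obj ≫ G.map _ ≫ i.hom = (G.map _ ≫ i.hom) ≫ ah α'
      rw [← β'.toNatTrans.naturality_assoc, hb']
      simp
    have e : β' = β := hβ' _ _ fun w => by
      refine cancel hg (t w.obj) (by rw [map_app, map_app]) ?_
      rw [hn w, ← h' _ (t w.obj) (hmem w), show β.toNatTrans.app w.obj = ah (a _ (t w.obj) (hmem w)) from
        congrArg (fun k => k.toNatTrans.app w) hβ]
    rw [hα, ← e, hb']
    simp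

/-- systems of automorphisms over the slice of `U` -/
def sysSub (𝒮 : BasedCategory.{v, max u v} C) (U : C) :
    Subgroup (∀ o : 𝒮.obj, (𝒮.p.obj o ⟶ U) → Gerb.AutO o) where
  carrier := {a | ∀ ⦃o' o : 𝒮.obj⦄ (φ : o' ⟶ o) (h : 𝒮.p.obj o ⟶ U),
    ah (a o' (𝒮.p.map φ ≫ h)) ≫ φ = φ ≫ ah (a o h)}
  one_mem' _ _ φ _ := by simp [ah_one]
  mul_mem' {a b} ha hb o' o φ h := by
    show ah (a _ _ * b _ _) ≫ φ = φ ≫ ah (a _ _ * b _ _)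
    rw [ah_mul, ah_mul, Category.assoc, ha φ h, reassoc_of% hb φ h]
  inv_mem' {a} ha o' o φ h := by
    show ah (a o' (𝒮.p.map φ ≫ h))⁻¹ ≫ φ = φ ≫ ah (a o h)⁻¹
    calc ah (a o' (𝒮.p.map φ ≫ h))⁻¹ ≫ φ
        = ah (a o' (𝒮.p.map φ ≫ h))⁻¹ ≫ φ ≫ ah (a o h) ≫ ah (a o h)⁻¹ := by rw [ah_comp_inv, Category.comp_id]
      _ = ah (a o' (𝒮.p.map φ ≫ h))⁻¹ ≫ (ah (a o' (𝒮.p.map φ ≫ h)) ≫ φ) ≫ ah (a o h)⁻¹ := by
        rw [ha φ h, Category.assoc]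
      _ = φ ≫ ah (a o h)⁻¹ := by rw [← Category.assoc, ← Category.assoc, ah_inv_comp, Category.id_comp]

/-- restriction of systems -/
def res {U V : C} (f : V ⟶ U) : sysSub 𝒮 U →* sysSub 𝒮 V where
  toFun a := ⟨fun o h => a.1 o (h ≫ f), fun o' o φ h => by
    show ah (a.1 o' ((𝒮.p.map φ ≫ h) ≫ f)) ≫ φ = _
    rw [Category.assoc]
    exact a.2 φ (h ≫ f)⟩
  map_one' := rfl
  map_mul' _ _ := rfl

variable (𝒮) in
/-- the band as a presheaf of groups -/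
def psh : Cᵒᵖ ⥤ GrpCat.{max u v} where
  obj U := GrpCat.of (sysSub 𝒮 U.unop)
  map f := GrpCat.ofHom (res f.unop)
  map_id U := GrpCat.hom_ext (MonoidHom.ext fun a => Subtype.ext (funext₂ fun o h => by
    show a.1 o (h ≫ 𝟙 _) = _
    rw [Category.comp_id]
    rfl))
  map_comp {U V W} f g := GrpCat.hom_ext (MonoidHom.ext fun a => Subtype.ext (funext₂ fun o h => by
    show a.1 o (h ≫ g.unop ≫ f.unop) = a.1 o ((h ≫ g.unop) ≫ f.unop)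
    rw [Category.assoc]))

theorem isSheaf_psh (hS : Stk.IsStack J 𝒮) : Presheaf.IsSheaf J (psh 𝒮) := by
  rw [Presheaf.isSheaf_iff_isSheaf_forget J (psh 𝒮) (CategoryTheory.forget GrpCat.{max u v}),
    isSheaf_iff_isSheaf_of_type]
  intro U R hR b hb
  let b' : ∀ {V : C} (f : V ⟶ U), R f → sysSub 𝒮 V := fun f hf => b f hf
  have hcomp : ∀ {W V : C} (k : W ⟶ V) (f : V ⟶ U) (hf : R f) (g : W ⟶ U) (hg : R g), k ≫ f = g →
      res k (b' f hf) = b' g hg := fun {W V} k f hf g hg e => by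
    subst e
    have := (Presieve.compatible_iff_sieveCompatible _).1 hb f k hf
    exact this.symm
  let key : ∀ (o : 𝒮.obj) (h : 𝒮.p.obj o ⟶ U) (y : 𝒮.obj) (φ : y ⟶ o),
      (R.pullback h) (𝒮.p.map φ) → Gerb.AutO y := fun o h y φ hφ => (b' (𝒮.p.map φ ≫ h) hφ).1 y (𝟙 _)
  have hkey : ∀ (o : 𝒮.obj) (h : 𝒮.p.obj o ⟶ U) ⦃y' y : 𝒮.obj⦄ (ψ : y' ⟶ y) (φ : y ⟶ o)
      (hφ : (R.pullback h) (𝒮.p.map φ)) (hφ' : (R.pullback h) (𝒮.p.map (ψ ≫ φ))),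
      ah (key o h y' (ψ ≫ φ) hφ') ≫ ψ = ψ ≫ ah (key o h y φ hφ) := fun o h y' y ψ φ hφ hφ' => by
    show ah ((b' _ hφ').1 y' (𝟙 _)) ≫ ψ = _
    rw [← hcomp (𝒮.p.map ψ) _ hφ _ hφ' (by simp)]
    show ah ((b' _ hφ).1 y' (𝟙 _ ≫ 𝒮.p.map ψ)) ≫ ψ = _
    rw [Category.id_comp, ← Category.comp_id (𝒮.p.map ψ)]
    exact (b' _ hφ).2 ψ (𝟙 _)
  have hgl := fun (o : 𝒮.obj) (h : 𝒮.p.obj o ⟶ U) =>
    existsUnique_glue hS (J.pullback_stable h hR) (key o h) (hkey o h)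
  choose g hg hu using hgl
  have hmem : (fun o h => g o h) ∈ sysSub 𝒮 U := fun o' o ψ h => by
    obtain ⟨β, hβ, -⟩ := existsUnique_conj hS.1 ψ (g o h)
    show ah (g o' (𝒮.p.map ψ ≫ h)) ≫ ψ = ψ ≫ ah (g o h)
    rw [show g o' (𝒮.p.map ψ ≫ h) = β from (hu o' (𝒮.p.map ψ ≫ h) β fun y φ hφ => ?_).symm]
    · exact hβ
    refine cancel hS.1 ψ (by simp [map_ah]) ?_
    have hφ' : (R.pullback h) (𝒮.p.map (φ ≫ ψ)) := by
      show R (𝒮.p.map (φ ≫ ψ) ≫ h)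
      rw [Functor.map_comp, Category.assoc]
      exact hφ
    have e : key o' (𝒮.p.map ψ ≫ h) y φ hφ = key o h y (φ ≫ ψ) hφ' := by
      show (b' _ hφ).1 y (𝟙 _) = (b' _ hφ').1 y (𝟙 _)
      have gen : ∀ (f₁ f₂ : 𝒮.p.obj y ⟶ U) (h₁ : R f₁) (h₂ : R f₂), f₁ = f₂ →
          (b' f₁ h₁).1 y (𝟙 _) = (b' f₂ h₂).1 y (𝟙 _) := by
        intro f₁ f₂ _ _ e
        subst e
        rfl
      exact gen _ _ hφ hφ' (by simp)
    rw [Category.assoc, Category.assoc, hβ, e, hg o h y (φ ≫ ψ) hφ', Category.assoc]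
  refine ⟨⟨fun o h => g o h, hmem⟩, fun V f hf => ?_, fun c hc => ?_⟩
  · refine Subtype.ext (funext₂ fun o h => ?_)
    show g o (h ≫ f) = (b' f hf).1 o h
    refine (hu o (h ≫ f) _ fun y φ hφ => ?_).symm
    show ah ((b' _ hφ).1 y (𝟙 _)) ≫ φ = _
    rw [← hcomp (𝒮.p.map φ ≫ h) f hf _ hφ (by simp)]
    show ah ((b' f hf).1 y (𝟙 _ ≫ 𝒮.p.map φ ≫ h)) ≫ φ = _
    rw [Category.id_comp]
    exact (b' f hf).2 φ h
  · refine Subtype.ext (funext₂ fun o h => hu o h _ fun y φ hφ => ?_)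
    have e := congrArg (fun s : sysSub 𝒮 (𝒮.p.obj y) => s.1 y (𝟙 _)) (hc (𝒮.p.map φ ≫ h) hφ)
    show ah ((b' _ hφ).1 y (𝟙 _)) ≫ φ = _
    rw [← show (c : sysSub 𝒮 U).1 y (𝟙 _ ≫ 𝒮.p.map φ ≫ h) = (b' (𝒮.p.map φ ≫ h) hφ).1 y (𝟙 _) from e,
      Category.id_comp]
    exact (c : sysSub 𝒮 U).2 φ h

section banding

variable (h : Gerb.IsGerbe J 𝒮) (hcomm : ∀ (x : 𝒮.obj) (α β : Gerb.AutO x), α * β = β * α)

include hcomm in
/-- conjugates do not depend on the morphism -/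
lemma conj_unique (hg : FibCat.IsFibGrpd 𝒮.p) {y x : 𝒮.obj} {ψ ψ' : y ⟶ x} (e : 𝒮.p.map ψ = 𝒮.p.map ψ')
    {α : Gerb.AutO x} {β β' : Gerb.AutO y} (hβ : ah β ≫ ψ = ψ ≫ ah α) (hβ' : ah β' ≫ ψ' = ψ' ≫ ah α) :
    β = β' := by
  obtain ⟨χ₀, ⟨hχ, hc⟩, -⟩ := existsUnique_cart hg ψ ψ' (𝟙 _) (by simp [e])
  obtain ⟨χ, rfl⟩ := exists_autO hg χ₀ hχ
  have e₁ : ah β' ≫ ah χ = ah χ ≫ ah β := by
    refine cancel hg ψ (by simp [map_ah]) ?_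
    rw [Category.assoc, Category.assoc, hc, hβ, hβ', ← reassoc_of% hc]
  have e₂ : χ * β' = χ * β := by
    rw [hcomm y χ β]
    exact autO_ext (by rw [ah_mul, ah_mul]; exact e₁)
  exact (mul_left_cancel e₂).symm

include h in
/-- objects over one base are locally connected -/
theorem mem_connected {o x : 𝒮.obj} (k : 𝒮.p.obj o ⟶ 𝒮.p.obj x) :
    ∃ R ∈ J (𝒮.p.obj o), ∀ ⦃W : C⦄ (m : W ⟶ 𝒮.p.obj o), R m →
      ∀ (y : 𝒮.obj) (φ : y ⟶ o) (e : 𝒮.p.obj y = W), 𝒮.p.map φ = eqToHom e ≫ m →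
        ∃ ψ : y ⟶ x, 𝒮.p.map ψ = 𝒮.p.map φ ≫ k := by
  obtain ⟨x₁, l, hl⟩ := GerbLib.lift_at h.1.1 rfl k
  haveI := hl
  have hx₁ : 𝒮.p.obj x₁ = 𝒮.p.obj o := IsHomLift.domain_eq 𝒮.p k l
  have hlm : 𝒮.p.map l = eqToHom hx₁ ≫ k := by simpa using IsHomLift.fac' 𝒮.p k l
  obtain ⟨R, hR, hR'⟩ := h.2.2 o x₁ (eqToHom hx₁.symm)
    (IsHomLift.of_fac' _ _ _ rfl hx₁ (by simp; rfl))
  refine ⟨R, hR, fun W m hm y φ e hφ => ?_⟩
  obtain ⟨x₀, φ₀, ψ₀, h₁, h₂, -⟩ := hR' m hm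
  haveI := h₁
  haveI := h₂
  have hx₀ : 𝒮.p.obj x₀ = W := IsHomLift.domain_eq 𝒮.p m φ₀
  obtain ⟨χ, ⟨hχ, -⟩, -⟩ := existsUnique_cart h.1.1 φ₀ φ (eqToHom (e.trans hx₀.symm)) (by
    rw [hφ, IsHomLift.fac' 𝒮.p m φ₀]; simp)
  refine ⟨χ ≫ ψ₀ ≫ l, ?_⟩
  rw [Functor.map_comp, Functor.map_comp, hχ, hlm, IsHomLift.fac' 𝒮.p m ψ₀, hφ]
  simp

include h hcomm in
theorem existsUnique_system {x : 𝒮.obj} (α : Gerb.AutO x) :
    ∃! a : sysSub 𝒮 (𝒮.p.obj x), a.1 x (𝟙 _) = α := by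
  have hg := h.1.1
  have huniq : ∀ a : sysSub 𝒮 (𝒮.p.obj x), a.1 x (𝟙 _) = α → ∀ (y : 𝒮.obj) (ψ : y ⟶ x),
      ah (a.1 y (𝒮.p.map ψ)) ≫ ψ = ψ ≫ ah α := fun a ha y ψ => by
    rw [← ha, ← Category.comp_id (𝒮.p.map ψ)]
    exact a.2 ψ (𝟙 _)
  let R : ∀ (o : 𝒮.obj) (k : 𝒮.p.obj o ⟶ 𝒮.p.obj x), Sieve (𝒮.p.obj o) := fun o k =>
    { arrows := fun W m => ∀ (y : 𝒮.obj) (φ : y ⟶ o), (∃ g : 𝒮.p.obj y ⟶ W, g ≫ m = 𝒮.p.map φ) →
        ∃ ψ : y ⟶ x, 𝒮.p.map ψ = 𝒮.p.map φ ≫ k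
      downward_closed := fun {W W'} m hm g y φ ⟨g', hg'⟩ => hm y φ ⟨g' ≫ g, by rw [Category.assoc, hg']⟩ }
  have hR : ∀ o k, R o k ∈ J (𝒮.p.obj o) := fun o k => by
    obtain ⟨R₀, hR₀, h₀⟩ := mem_connected h (x := x) k
    refine J.superset_covering (fun W m hm y φ hyp => ?_) hR₀
    obtain ⟨g, hg'⟩ := hyp
    exact h₀ (g ≫ m) (R₀.downward_closed hm g) y φ rfl (by rw [hg']; simp)
  have hψ : ∀ (o : 𝒮.obj) (k : 𝒮.p.obj o ⟶ 𝒮.p.obj x) (y : 𝒮.obj) (φ : y ⟶ o), R o k (𝒮.p.map φ) →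
      ∃ ψ : y ⟶ x, 𝒮.p.map ψ = 𝒮.p.map φ ≫ k := fun o k y φ hm => hm y φ ⟨𝟙 _, Category.id_comp _⟩
  choose ψ hψ' using hψ
  let c : ∀ (o : 𝒮.obj) (k : 𝒮.p.obj o ⟶ 𝒮.p.obj x) (y : 𝒮.obj) (φ : y ⟶ o),
      R o k (𝒮.p.map φ) → Gerb.AutO y := fun o k y φ hm => (existsUnique_conj hg (ψ o k y φ hm) α).choose
  have hc : ∀ o k y φ hm, ah (c o k y φ hm) ≫ ψ o k y φ hm = ψ o k y φ hm ≫ ah α := fun o k y φ hm =>
    (existsUnique_conj hg (ψ o k y φ hm) α).choose_spec.1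
  have hcc : ∀ o k ⦃y' y : 𝒮.obj⦄ (χ : y' ⟶ y) (φ : y ⟶ o) (hm : R o k (𝒮.p.map φ))
      (hm' : R o k (𝒮.p.map (χ ≫ φ))), ah (c o k y' (χ ≫ φ) hm') ≫ χ = χ ≫ ah (c o k y φ hm) :=
    fun o k y' y χ φ hm hm' => by
    obtain ⟨β, hβ, -⟩ := existsUnique_conj hg χ (c o k y φ hm)
    rw [conj_unique hcomm hg (by simp [hψ']) (hc o k y' (χ ≫ φ) hm')
      (show ah β ≫ χ ≫ ψ o k y φ hm = (χ ≫ ψ o k y φ hm) ≫ ah α by
        rw [reassoc_of% hβ, hc, Category.assoc])]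
    exact hβ
  have hgl := fun o k => existsUnique_glue h.1 (hR o k) (c o k) (hcc o k)
  choose a ha hu using hgl
  have ha' : ∀ (b : sysSub 𝒮 (𝒮.p.obj x)), b.1 x (𝟙 _) = α → ∀ o k, b.1 o k = a o k := fun b hb o k =>
    hu o k _ fun y φ hm => by
      have e₁ := huniq b hb y (ψ o k y φ hm)
      rw [hψ'] at e₁
      rw [show c o k y φ hm = b.1 y (𝒮.p.map φ ≫ k) from conj_unique hcomm hg rfl (hc o k y φ hm) e₁]
      exact b.2 φ k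
  have hmem : (fun o k => a o k) ∈ sysSub 𝒮 (𝒮.p.obj x) := fun o' o χ k => by
    obtain ⟨β, hβ, -⟩ := existsUnique_conj hg χ (a o k)
    show ah (a o' (𝒮.p.map χ ≫ k)) ≫ χ = χ ≫ ah (a o k)
    rw [show a o' (𝒮.p.map χ ≫ k) = β from (hu o' (𝒮.p.map χ ≫ k) β fun y φ hm => ?_).symm]
    · exact hβ
    refine cancel hg χ (by simp [map_ah]) ?_
    have hm' : R o k (𝒮.p.map (φ ≫ χ)) := fun y' φ' ⟨g, hg'⟩ => by
      rw [Functor.map_comp, ← Category.assoc] at hg'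
      obtain ⟨φ'', ⟨hφ₁, hφ₂⟩, -⟩ := existsUnique_cart hg χ φ' (g ≫ 𝒮.p.map φ) hg'
      obtain ⟨ψ₁, hψ₁⟩ := hm y' φ'' ⟨g, hφ₁.symm⟩
      refine ⟨ψ₁, ?_⟩
      rw [hψ₁, ← Category.assoc, ← Functor.map_comp, hφ₂]
    rw [show c o' (𝒮.p.map χ ≫ k) y φ hm = c o k y (φ ≫ χ) hm' from
      conj_unique hcomm hg (by simp [hψ']) (hc _ _ y φ hm) (hc o k y (φ ≫ χ) hm')]
    rw [Category.assoc, Category.assoc, hβ, ha o k y (φ ≫ χ) hm', Category.assoc]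
  refine ⟨⟨fun o k => a o k, hmem⟩, (hu x (𝟙 _) α fun y φ hm => ?_).symm,
    fun b hb => Subtype.ext (funext₂ fun o k => ha' b hb o k)⟩
  obtain ⟨β, hβ, -⟩ := existsUnique_conj hg φ α
  rw [show c x (𝟙 _) y φ hm = β from conj_unique hcomm hg (by simp [hψ']) (hc _ _ y φ hm) hβ]
  exact hβ

include h hcomm in
theorem exists_sheaf_banding : ∃ G : Sheaf J GrpCat.{max u v},
    (∀ (U : C) (a b : G.obj.obj (op U)), a * b = b * a) ∧ Nonempty (Gerb.Banding 𝒮 G.obj) := by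
  refine ⟨⟨psh 𝒮, isSheaf_psh h.1⟩, fun U a b => ?_, ⟨?_⟩⟩
  · exact Subtype.ext (funext₂ fun o k => hcomm o _ _)
  let ev : ∀ x : 𝒮.obj, sysSub 𝒮 (𝒮.p.obj x) →* Gerb.AutO x := fun x =>
    { toFun := fun a => a.1 x (𝟙 _)
      map_one' := rfl
      map_mul' := fun _ _ => rfl }
  have hbij : ∀ x, Function.Bijective (ev x) := fun x =>
    Function.bijective_iff_existsUnique _ |>.2 fun α => existsUnique_system h hcomm α
  exact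
    { iso := fun x => MulEquiv.ofBijective (ev x) (hbij x)
      natural := fun {x' x} φ a => by
        show ah (a.1 x' (𝟙 _ ≫ 𝒮.p.map φ)) ≫ φ = φ ≫ ah (a.1 x (𝟙 _))
        rw [Category.id_comp, ← Category.comp_id (𝒮.p.map φ)]
        exact a.2 φ (𝟙 _) }

end banding

end Groth.Agent.GerbLib.Band

end
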